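import Cfsg.Agent.Lib.Fi24Mult27.LabelDefs
import Cfsg.Agent.Lib.Fi24Mult27.CertData

/-! The certificate holds. -/

set_option autoImplicit false
set_option maxRecDepth 20000
set_option Elab.async false

namespace Cfsg.Agent.Lib.Fi24Mult27

open Cfsg.Agent.Lib.CosetEnum (PTree)
open Cfsg.Agent.Lib

/-- The test of a leaf. -/
noncomputable def certLeaf : ℕ → Bool :=
  leafOk Fi24.table Fi24.tree Fi24.rotTree rowsTree Fi24.inH rotVals0 rotVals1

theorem rows0_ok : allLeaves certLeaf rows0 = true := by decide +kernel

theorem rows1_ok : allLeaves certLeaf rows1 = true := by decide +kernel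

theorem rows2_ok : allLeaves certLeaf rows2 = true := by decide +kernel

theorem rows3_ok : allLeaves certLeaf rows3 = true := by decide +kernel

theorem rows4_ok : allLeaves certLeaf rows4 = true := by decide +kernel

theorem rows5_ok : allLeaves certLeaf rows5 = true := by decide +kernel

theorem rows6_ok : allLeaves certLeaf rows6 = true := by decide +kernel

theorem rows7_ok : allLeaves certLeaf rows7 = true := by decide +kernel

theorem rows8_ok : allLeaves certLeaf rows8 = true := by decide +kernel

theorem rows9_ok : allLeaves certLeaf rows9 = true := by decide +kernel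

theorem rows10_ok : allLeaves certLeaf rows10 = true := by decide +kernel

theorem rows11_ok : allLeaves certLeaf rows11 = true := by decide +kernel

theorem rows12_ok : allLeaves certLeaf rows12 = true := by decide +kernel

theorem rows13_ok : allLeaves certLeaf rows13 = true := by decide +kernel

theorem rows14_ok : allLeaves certLeaf rows14 = true := by decide +kernel

theorem rows15_ok : allLeaves certLeaf rows15 = true := by decide +kernel

theorem rows16_ok : allLeaves certLeaf rows16 = true := by decide +kernel

theorem rows17_ok : allLeaves certLeaf rows17 = true := by decide +kernel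

theorem rows18_ok : allLeaves certLeaf rows18 = true := by decide +kernel

theorem rows19_ok : allLeaves certLeaf rows19 = true := by decide +kernel

theorem rows20_ok : allLeaves certLeaf rows20 = true := by decide +kernel

theorem rows21_ok : allLeaves certLeaf rows21 = true := by decide +kernel

theorem rows22_ok : allLeaves certLeaf rows22 = true := by decide +kernel

theorem rows23_ok : allLeaves certLeaf rows23 = true := by decide +kernel

theorem rows24_ok : allLeaves certLeaf rows24 = true := by decide +kernel

theorem rows25_ok : allLeaves certLeaf rows25 = true := by decide +kernel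

theorem rows26_ok : allLeaves certLeaf rows26 = true := by decide +kernel

theorem rows27_ok : allLeaves certLeaf rows27 = true := by decide +kernel

theorem rows28_ok : allLeaves certLeaf rows28 = true := by decide +kernel

theorem rows29_ok : allLeaves certLeaf rows29 = true := by decide +kernel

theorem rows30_ok : allLeaves certLeaf rows30 = true := by decide +kernel

theorem rows31_ok : allLeaves certLeaf rows31 = true := by decide +kernel

theorem allLeaves_node {p : ℕ → Bool} {m : ℕ} {l r : PTree} (hl : allLeaves p l = true)
    (hr : allLeaves p r = true) : allLeaves p (.node m l r) = true := by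
  show (allLeaves p l && allLeaves p r) = true
  rw [hl, hr]; rfl

theorem cert_ok : allLeaves certLeaf rowsTree = true :=
  (allLeaves_node (allLeaves_node (allLeaves_node (allLeaves_node (allLeaves_node rows0_ok rows1_ok) (allLeaves_node rows2_ok rows3_ok)) (allLeaves_node (allLeaves_node rows4_ok rows5_ok) (allLeaves_node rows6_ok rows7_ok))) (allLeaves_node (allLeaves_node (allLeaves_node rows8_ok rows9_ok) (allLeaves_node rows10_ok rows11_ok)) (allLeaves_node (allLeaves_node rows12_ok rows13_ok) (allLeaves_node rows14_ok rows15_ok)))) (allLeaves_node (allLeaves_node (allLeaves_node (allLeaves_node rows16_ok rows17_ok) (allLeaves_node rows18_ok rows19_ok)) (allLeaves_node (allLeaves_node rows20_ok rows21_ok) (allLeaves_node rows22_ok rows23_ok))) (allLeaves_node (allLeaves_node (allLeaves_node rows24_ok rows25_ok) (allLeaves_node rows26_ok rows27_ok)) (allLeaves_node (allLeaves_node rows28_ok rows29_ok) (allLeaves_node rows30_ok rows31_ok)))))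

theorem loops_ok :
    loopOk Fi24.table rowsTree 0 (Fi24.Cert.code (Fi24.rels.getD 66 [])) 9 8 8 17 15 = true ∧
    loopOk Fi24.table rowsTree 0 (Fi24.Cert.code (Fi24.rels.getD 66 [])) 87 8 8 18 15 = true ∧
    loopOk Fi24.table rowsTree 1 (Fi24.Cert.code (Fi24.rels.getD 13 [])) 215221 8 8 15 15 = true ∧
    loopOk Fi24.table rowsTree 1 (Fi24.Cert.code (Fi24.rels.getD 20 [])) 241880 8 8 19 16 = true := by
  decide +kernel

end Cfsg.Agent.Lib.Fi24Mult27
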