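import Cfsg.Agent.Lib.Fi24.Words
import Cfsg.Agent.Lib.Fi24.Data.Table
import Cfsg.Agent.Lib.Fi24Mult27.Labels

/-! The checks at one point of a threefold cover of the action of the presented Fi24. -/

set_option autoImplicit false

namespace Cfsg.Agent.Lib.Fi24Mult27

open Cfsg.Agent.Lib.CosetEnum (PTree force allBelow get32)
open Cfsg.Agent.Lib

/-- A two-bit field. -/
def two (e k : ℕ) : ℕ := Nat.mod (Nat.shiftRight e k) 4

/-- The exponent of a letter. -/
def edgeLab (e g : ℕ) : ℕ := two e (Nat.mul 2 g)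

/-- Equality modulo three. -/
def eq3 (x y : ℕ) : Bool := Nat.beq (Nat.mod x 3) (Nat.mod y 3)

/-- The exponent collected along a word. -/
noncomputable def lfold (T L : PTree) (l : List ℕ) : ℕ → ℕ → ℕ :=
  List.rec (motive := fun _ => ℕ → ℕ → ℕ) (fun _ s => s)
    (fun g _ ih i s => force (Nat.add (Nat.mul 2 s) (edgeLab (get32 L i) g)) fun s' =>
      force (Fi24.Cert.tget T i g) fun i' => ih i' s') l

/-- All checks at point `i`. -/
noncomputable def labOk (i : ℕ) : Bool :=
  force (get32 labTree i) fun e => force (Fi24.Cert.row Fi24.table i) fun r =>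
  (allBelow 12 fun g =>
    force (Fi24.Cert.ent r g) fun a => force (get32 labTree a) fun ea => force (edgeLab e g) fun x =>
    Nat.beq (edgeLab ea g) x &&
    (Nat.blt a i || force (Fi24.Cert.row Fi24.table a) fun ra => allBelow g fun h =>
      force (Fi24.Cert.ent r h) fun b => force (get32 labTree b) fun eb =>
      Bool.rec (eq3 (Nat.add (Nat.mul 2 x) (edgeLab ea h)) (Nat.add (Nat.mul 2 (edgeLab e h)) (edgeLab eb g)))
        (force (Fi24.Cert.ent ra h) fun ah => force (Fi24.Cert.tget Fi24.table b g) fun bg =>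
          eq3 (Nat.add (Nat.mul 2 (Nat.add (Nat.mul 2 x) (edgeLab ea h))) (edgeLab (get32 labTree ah) g))
            (Nat.add (Nat.mul 2 (Nat.add (Nat.mul 2 (edgeLab e h)) (edgeLab eb g)))
              (edgeLab (get32 labTree bg) h)))
        (Nat.testBit Fi24.adjM (Nat.add (Nat.mul 12 g) h)))) &&
  eq3 (lfold Fi24.table labTree ((List.replicate 3 Fi24.cox).flatten) i 0) (two e 24) &&
  eq3 (lfold Fi24.table labTree Fi24.spider i 0) (two e 26) &&
  (force (Fi24.Cert.col19 Fi24.spider1 i) fun j1 => force (Fi24.Cert.col19 Fi24.spider1 j1) fun j2 =>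
    force (Fi24.Cert.col19 Fi24.spider1 j2) fun j3 =>
    eq3 (Nat.add (Nat.add (Nat.add (two e 26) (two (get32 labTree j1) 26)) (two (get32 labTree j2) 26))
      (two (get32 labTree j3) 26)) (two e 28)) &&
  (force (Fi24.Cert.ent r 0) fun a => force (Fi24.Cert.col19 Fi24.cox3 a) fun a1 =>
    force (Fi24.Cert.col19 Fi24.cox3 a1) fun a2 =>
    eq3 (Nat.add (Nat.mul 2 (Nat.add (Nat.mul 2 (Nat.add (Nat.mul 2 (edgeLab e 0))
      (two (get32 labTree a) 24))) (two (get32 labTree a1) 24))) (two (get32 labTree a2) 24)) 0) &&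
  (force (Fi24.Cert.col19 Fi24.spider4 i) fun k1 => force (Fi24.Cert.col19 Fi24.spider4 k1) fun k2 =>
    force (Fi24.Cert.col19 Fi24.spider4 k2) fun k3 => force (Fi24.Cert.col19 Fi24.spider4 k3) fun k4 =>
    eq3 (Nat.add (Nat.add (Nat.add (Nat.add (two e 28) (two (get32 labTree k1) 28)) (two (get32 labTree k2) 28))
      (two (get32 labTree k3) 28)) (two (get32 labTree k4) 26)) 1)

end Cfsg.Agent.Lib.Fi24Mult27
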