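import Cfsg.Agent.Lib.Fi24Mult27.Group
import Cfsg.Agent.Lib.Fi24Mult27.LowPoints

/-!
From the checks at all points: twelve permutations of three copies of the points that satisfy the presentation
of Fi24 except that the spider relator shifts the copies.
-/

set_option autoImplicit false
set_option maxRecDepth 20000

namespace Cfsg.Agent.Lib.Fi24Mult27

open Cfsg.Agent.Lib
open Cfsg.Agent.Lib.CosetEnum (allBelow allBelow_iff force_eq get32)
open Cfsg.Agent.Lib.Fi24 (table)

attribute [local irreducible] Fi24.table Fi24.tree Fi24.cox3 Fi24.spider1 Fi24.spider4 Fi24.rotTree labTree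

/-- Three copies of the points. -/
abbrev Pt : Type := Fin 306936 × ZMod 3

/-- The pairs of letters hold on the table. -/
theorem pairs_ok : allBelow 306936 (Fi24.Cert.pairsAt 306936 table Fi24.adjM) = true := by
  refine allBelow_iff.2 fun i hi => ?_
  have h := allBelow_iff.1 Fi24.points_ok i hi
  simp only [Fi24.pointOk, Bool.and_eq_true] at h
  exact h.1.1.1.1.1.2

/-- The permutation of the points by a letter. -/
noncomputable abbrev base (g : ℕ) : Equiv.Perm (Fin 306936) := Fi24.Cert.perm pairs_ok g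

/-- The exponent of an edge modulo three. -/
noncomputable def labZ (i g : ℕ) : ZMod 3 := (edgeLab (get32 labTree i) g : ℕ)

/-- The raw map of a letter. -/
noncomputable def letterMap (g : ℕ) (x : Pt) : Pt := (base g x.1, -x.2 + labZ x.1.1 g)

theorem cast_two_mul (x : ℕ) : ((Nat.mul 2 x : ℕ) : ZMod 3) = -(x : ZMod 3) := by
  rw [Nat.mul_eq, Nat.cast_mul]
  have : ((2 : ℕ) : ZMod 3) = -1 := by decide
  rw [this, neg_one_mul]

theorem eq3_cast {x y : ℕ} (h : eq3 x y = true) : (x : ZMod 3) = y :=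
  (ZMod.natCast_eq_natCast_iff' x y 3).2 (Nat.eq_of_beq_eq_true h)

/-- What is checked at every point. -/
def LabelsOk : Prop := ∀ i < 306936, labOk i = true

variable (hL : LabelsOk)

include hL

theorem lab_back {i g : ℕ} (hi : i < 306936) (hg : g < 12) :
    labZ (Fi24.Cert.tget table i g) g = labZ i g := by
  have h := hL i hi
  simp only [labOk, force_eq, Bool.and_eq_true, allBelow_iff, Nat.beq_eq] at h
  exact congrArg Nat.cast (h.1.1.1.1.1 g hg).1

theorem letterMap_invol {g : ℕ} (hg : g < 12) : Function.Involutive (letterMap g) := by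
  rintro ⟨i, c⟩
  refine Prod.ext ?_ ?_
  · exact DFunLike.congr_fun (Fi24.Cert.perm_sq pairs_ok hg) i
  · show -(-c + labZ i.1 g) + labZ (base g i).1 g = c
    rw [Fi24.Cert.perm_apply pairs_ok hg, lab_back hL i.2 hg]
    ring

/-- The permutation of a letter. -/
noncomputable def cperm (g : ℕ) : Equiv.Perm Pt :=
  if hg : g < 12 then (letterMap_invol hL hg).toPerm _ else 1

theorem cperm_apply {g : ℕ} (hg : g < 12) (x : Pt) : cperm hL g x = letterMap g x := by
  rw [cperm, dif_pos hg]; rfl

theorem cperm_sq {g : ℕ} (hg : g < 12) : cperm hL g * cperm hL g = 1 := by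
  ext1 x
  rw [Equiv.Perm.mul_apply, cperm_apply hL hg, cperm_apply hL hg, letterMap_invol hL hg]
  rfl

theorem cperm_inv {g : ℕ} (hg : g < 12) : (cperm hL g)⁻¹ = cperm hL g :=
  inv_eq_of_mul_eq_one_right (cperm_sq hL hg)

theorem pair_at {g k : ℕ} (hg : g < 12) (hk : k < g) (x : Pt) (hle : x.1.1 ≤ (base g x.1).1) :
    if Nat.testBit Fi24.adjM (12 * g + k) then
      letterMap g (letterMap k (letterMap g x)) = letterMap k (letterMap g (letterMap k x))
    else letterMap k (letterMap g x) = letterMap g (letterMap k x) := by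
  obtain ⟨i, c⟩ := x
  have hk12 : k < 12 := by omega
  have hb := fun {j : ℕ} (hj : j < 12) (m : Fin 306936) => Fi24.Cert.perm_apply pairs_ok hj m
  rw [hb hg] at hle
  have h := hL i.1 i.2
  simp only [labOk, force_eq, Bool.and_eq_true, Bool.or_eq_true, allBelow_iff, Nat.beq_eq, Nat.blt_eq] at h
  change i.1 ≤ Fi24.Cert.tget table i.1 g at hle
  have h2 := (h.1.1.1.1.1 g hg).2.resolve_left
    (show ¬ Fi24.Cert.tget table i.1 g < i.1 by omega) k hk
  simp only [Nat.add_eq, Nat.mul_eq] at h2
  have hpt := Fi24.Cert.pair_rel pairs_ok hg hk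
  cases hbit : Nat.testBit Fi24.adjM (12 * g + k) <;> rw [hbit] at h2 hpt <;>
    simp only [Bool.false_eq_true, if_true, if_false] at hpt ⊢
  · refine Prod.ext (DFunLike.congr_fun hpt.symm i) ?_
    have e := eq3_cast h2
    push_cast at e
    show -(-c + labZ i.1 g) + labZ (base g i).1 k = -(-c + labZ i.1 k) + labZ (base k i).1 g
    rw [hb hg, hb hk12]
    have e2 : (2 : ZMod 3) = -1 := by decide
    rw [e2] at e
    simp only [labZ, Fi24.Cert.tget] at *
    linear_combination e
  · refine Prod.ext (DFunLike.congr_fun hpt i) ?_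
    have e := eq3_cast h2
    push_cast at e
    show -(-(-c + labZ i.1 g) + labZ (base g i).1 k) + labZ (base k (base g i)).1 g =
      -(-(-c + labZ i.1 k) + labZ (base k i).1 g) + labZ (base g (base k i)).1 k
    rw [hb hk12, hb hg, hb hg, hb hk12]
    have e2 : (2 : ZMod 3) = -1 := by decide
    rw [e2] at e
    simp only [labZ, Fi24.Cert.tget] at *
    linear_combination e

theorem pair_rel_cperm {g k : ℕ} (hg : g < 12) (hk : k < g) :
    if Nat.testBit Fi24.adjM (12 * g + k) then
      cperm hL g * cperm hL k * cperm hL g = cperm hL k * cperm hL g * cperm hL k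
    else cperm hL g * cperm hL k = cperm hL k * cperm hL g := by
  have hk12 : k < 12 := by omega
  have ig := letterMap_invol hL hg
  have ik := letterMap_invol hL hk12
  have hlow : ∀ x : Pt, (base g x.1).1 < x.1.1 → (letterMap g x).1.1 ≤ (base g (letterMap g x).1).1 := by
    intro x hx
    show (base g x.1).1 ≤ (base g (base g x.1)).1
    rw [← Equiv.Perm.mul_apply, Fi24.Cert.perm_sq pairs_ok hg, Equiv.Perm.one_apply]
    omega
  split_ifs with hb <;> ext1 x <;> simp only [Equiv.Perm.mul_apply, cperm_apply hL hg, cperm_apply hL hk12]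
  · rcases Nat.lt_or_ge (base g x.1).1 x.1.1 with hlt | hge
    · have h := pair_at hL hg hk (letterMap g x) (hlow x hlt)
      rw [if_pos hb, ig x] at h
      have h1 := congrArg (letterMap k) h
      rw [ik] at h1
      exact h1.symm
    · have h := pair_at hL hg hk x hge
      rwa [if_pos hb] at h
  · rcases Nat.lt_or_ge (base g x.1).1 x.1.1 with hlt | hge
    · have h := pair_at hL hg hk (letterMap g x) (hlow x hlt)
      rw [if_neg hb, ig x] at h
      have h1 := congrArg (letterMap g) h
      rw [ig] at h1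
      exact h1
    · have h := pair_at hL hg hk x hge
      rw [if_neg hb] at h
      exact h.symm

theorem pair_word {g k : ℕ} (hg : g < 12) (hk : k < g) :
    ((if Nat.testBit Fi24.adjM (12 * g + k) then [g, k, g, k, g, k] else [g, k, g, k]).map
      (cperm hL)).prod = 1 := by
  have h := pair_rel_cperm hL hg hk
  have sg := cperm_sq hL hg
  have sk := cperm_sq hL (show k < 12 by omega)
  split_ifs at h ⊢
  · simp only [List.map_cons, List.map_nil, List.prod_cons, List.prod_nil, mul_one]
    calc cperm hL g * (cperm hL k * (cperm hL g * (cperm hL k * (cperm hL g * cperm hL k))))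
        = cperm hL g * cperm hL k * cperm hL g * (cperm hL k * cperm hL g * cperm hL k) := by
          simp only [mul_assoc]
      _ = cperm hL g * cperm hL k * (cperm hL g * cperm hL g) * cperm hL k * cperm hL g := by
          rw [← h]; simp only [mul_assoc]
      _ = 1 := by rw [sg, mul_one, mul_assoc (cperm hL g), sk, mul_one, sg]
  · simp only [List.map_cons, List.map_nil, List.prod_cons, List.prod_nil, mul_one]
    calc cperm hL g * (cperm hL k * (cperm hL g * cperm hL k))
        = cperm hL g * cperm hL k * (cperm hL k * cperm hL g) := by rw [← h]; simp only [mul_assoc]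
      _ = 1 := by rw [mul_assoc, ← mul_assoc (cperm hL k), sk, one_mul, sg]

theorem word_apply : ∀ l : List ℕ, (∀ g ∈ l, g < 12) → ∀ (i : Fin 306936) (s : ℕ) (c : ZMod 3),
    ((((l.map (cperm hL)).prod)⁻¹ (i, c)).1.1 = Fi24.Cert.scanT table l i.1) ∧
      (((l.map (cperm hL)).prod)⁻¹ (i, c)).2 =
        (-1) ^ l.length * (c - s) + (lfold table labTree l i.1 s : ZMod 3) := by
  intro l
  induction l with
  | nil => intro _ i s c; simp [lfold, Fi24.Cert.scanT]
  | cons g l ih =>
    intro hl i s c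
    have hg := hl g List.mem_cons_self
    rw [List.map_cons, List.prod_cons, mul_inv_rev, Equiv.Perm.mul_apply, cperm_inv hL hg, cperm_apply hL hg]
    obtain ⟨h1, h2⟩ := ih (fun x hx => hl x (List.mem_cons_of_mem _ hx)) (base g i)
      (Nat.mul 2 s + edgeLab (get32 labTree i.1) g) (-c + labZ i.1 g)
    rw [show letterMap g (i, c) = (base g i, -c + labZ i.1 g) from rfl]
    have hlf : lfold table labTree (g :: l) i.1 s =
        lfold table labTree l (base g i).1 (Nat.mul 2 s + edgeLab (get32 labTree i.1) g) := by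
      rw [Fi24.Cert.perm_apply pairs_ok hg]
      show CosetEnum.force (Nat.add (Nat.mul 2 s) (edgeLab (get32 labTree i.1) g)) (fun s' =>
        CosetEnum.force (Fi24.Cert.tget table i.1 g) fun i' => lfold table labTree l i' s') = _
      simp only [force_eq, Nat.add_eq]
    refine ⟨?_, ?_⟩
    · rw [h1, Fi24.Cert.perm_apply pairs_ok hg]
      exact (force_eq _ (Fi24.Cert.scanT table l)).symm
    · rw [h2, hlf, List.length_cons, pow_succ, Nat.cast_add, cast_two_mul, labZ]
      ring

/-- A checked word acts with the checked exponent. -/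
theorem table_word {l : List ℕ} (hl : ∀ g ∈ l, g < 12) {P : CosetEnum.PTree}
    (hP : allBelow 306936 (Fi24.Cert.wordAt table P l) = true) {e : ℕ → ℕ}
    (he : ∀ i < 306936, eq3 (lfold table labTree l i 0) (e i) = true) (i : Fin 306936) (c : ZMod 3) :
    (((l.map (cperm hL)).prod)⁻¹ (i, c)).1.1 = Fi24.Cert.col19 P i.1 ∧
      (((l.map (cperm hL)).prod)⁻¹ (i, c)).2 = (-1) ^ l.length * c + (e i.1 : ZMod 3) := by
  obtain ⟨h1, h2⟩ := word_apply hL l hl i 0 c
  refine ⟨h1.trans (Fi24.Cert.wordAt_spec pairs_ok hP hl i.2).1.symm, ?_⟩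
  rw [h2, eq3_cast (he i.1 i.2), Nat.cast_zero, sub_zero]

theorem cox_word : ((0 :: (List.replicate 9 Fi24.cox).flatten).map (cperm hL)).prod = 1 := by
  have hl : ∀ g ∈ (List.replicate 3 Fi24.cox).flatten, g < 12 := by decide +kernel
  have hP := allBelow_iff.1 Fi24.points_ok
  have hW : allBelow 306936 (Fi24.Cert.wordAt table Fi24.cox3 ((List.replicate 3 Fi24.cox).flatten)) = true :=
    allBelow_iff.2 fun i hi => by
      have h := hP i hi
      simp only [Fi24.pointOk, Bool.and_eq_true] at h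
      exact h.1.1.1.1.2
  set Q := (((List.replicate 3 Fi24.cox).flatten).map (cperm hL)).prod with hQ
  have hQx : ∀ i : Fin 306936, ∀ c, (Q⁻¹ (i, c)).1.1 = Fi24.Cert.col19 Fi24.cox3 i.1 ∧
      (Q⁻¹ (i, c)).2 = -c + (two (get32 labTree i.1) 24 : ℕ) := by
    intro i c
    obtain ⟨h1, h2⟩ := table_word hL hl hW (e := fun j => two (get32 labTree j) 24) (fun j hj => by
      have h := hL j hj
      simp only [labOk, force_eq, Bool.and_eq_true] at h
      exact h.1.1.1.1.2) i c
    rw [show ((List.replicate 3 Fi24.cox).flatten).length = 21 by decide, Odd.neg_one_pow (by decide),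
      neg_one_mul] at h2
    exact ⟨h1, h2⟩
  have e : ((0 :: (List.replicate 9 Fi24.cox).flatten).map (cperm hL)).prod = cperm hL 0 * Q ^ 3 := by
    rw [List.map_cons, List.prod_cons, hQ, prod_replicate, prod_replicate, ← pow_mul]
  rw [e, ← inv_eq_one, mul_inv_rev, ← inv_pow, cperm_inv hL (by omega)]
  ext1 x
  obtain ⟨i, c⟩ := x
  rw [Equiv.Perm.mul_apply, cperm_apply hL (by omega), pow_succ, pow_two, Equiv.Perm.mul_apply,
    Equiv.Perm.mul_apply, Equiv.Perm.one_apply]
  obtain ⟨a1, b1⟩ := hQx (base 0 i) (-c + labZ i.1 0)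
  generalize hy1 : Q⁻¹ (base 0 i, -c + labZ i.1 0) = y1 at a1 b1
  obtain ⟨a2, b2⟩ := hQx y1.1 y1.2
  generalize hy2 : Q⁻¹ (y1.1, y1.2) = y2 at a2 b2
  obtain ⟨a3, b3⟩ := hQx y2.1 y2.2
  rw [show letterMap 0 (i, c) = (base 0 i, -c + labZ i.1 0) from rfl, hy1, hy2]
  have h := hP i.1 i.2
  simp only [Fi24.pointOk, Bool.and_eq_true, Nat.beq_eq, Fi24.col19_chain] at h
  have hb := Fi24.Cert.perm_apply pairs_ok (show (0 : ℕ) < 12 by omega) i
  refine Prod.ext (Fin.ext ?_) ?_
  · rw [a3, a2, a1, hb]
    exact h.1.2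
  · rw [b3, b2, b1]
    have h' := hL i.1 i.2
    simp only [labOk, force_eq, Bool.and_eq_true] at h'
    have e := eq3_cast h'.1.2
    simp only [Nat.add_eq, Nat.mul_eq] at e
    push_cast at e
    rw [a2, a1, hb]
    have e2 : (2 : ZMod 3) = -1 := by decide
    rw [e2] at e
    simp only [labZ, Fi24.Cert.tget] at *
    linear_combination e

/-- The shift of the copies. -/
noncomputable def shift (_ : LabelsOk) : Equiv.Perm Pt where
  toFun x := (x.1, x.2 + 1)
  invFun x := (x.1, x.2 - 1)
  left_inv _ := Prod.ext rfl (add_sub_cancel_right _ _)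
  right_inv _ := Prod.ext rfl (sub_add_cancel _ _)

theorem spider_word : (((List.replicate 17 Fi24.spider).flatten).map (cperm hL)).prod = (shift hL)⁻¹ := by
  have hl : ∀ g ∈ Fi24.spider, g < 12 := by decide +kernel
  have hP := allBelow_iff.1 Fi24.points_ok
  have hW : allBelow 306936 (Fi24.Cert.wordAt table Fi24.spider1 Fi24.spider) = true :=
    allBelow_iff.2 fun i hi => by
      have h := hP i hi
      simp only [Fi24.pointOk, Bool.and_eq_true] at h
      exact h.1.1.1.2
  set Q := ((Fi24.spider).map (cperm hL)).prod with hQ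
  have hQ1 : ∀ y : Pt, (Q⁻¹ y).1.1 = Fi24.Cert.col19 Fi24.spider1 y.1.1 ∧
      (Q⁻¹ y).2 = y.2 + (two (get32 labTree y.1.1) 26 : ℕ) := by
    rintro ⟨i, c⟩
    obtain ⟨h1, h2⟩ := table_word hL hl hW (e := fun j => two (get32 labTree j) 26) (fun j hj => by
      have h := hL j hj
      simp only [labOk, force_eq, Bool.and_eq_true] at h
      exact h.1.1.1.2) i c
    rw [show Fi24.spider.length = 14 from rfl, Even.neg_one_pow (by decide), one_mul] at h2
    exact ⟨h1, h2⟩
  set R := Q⁻¹ ^ 4 with hR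
  have hQ4 : ∀ y : Pt, (R y).1.1 = Fi24.Cert.col19 Fi24.spider4 y.1.1 ∧
      (R y).2 = y.2 + (two (get32 labTree y.1.1) 28 : ℕ) := by
    intro y
    have h := hP y.1.1 y.1.2
    simp only [Fi24.pointOk, Bool.and_eq_true, Fi24.Cert.powAt, Nat.beq_eq] at h
    have h4 := h.1.1.2
    rw [Fi24.Cert.powAt_rec] at h4
    simp only [Function.iterate_succ_apply', Function.iterate_zero_apply] at h4
    have e : R y = Q⁻¹ (Q⁻¹ (Q⁻¹ (Q⁻¹ y))) := by
      rw [hR, pow_succ, pow_succ, pow_succ, pow_one]; rfl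
    obtain ⟨a1, b1⟩ := hQ1 y
    obtain ⟨a2, b2⟩ := hQ1 (Q⁻¹ y)
    obtain ⟨a3, b3⟩ := hQ1 (Q⁻¹ (Q⁻¹ y))
    obtain ⟨a4, b4⟩ := hQ1 (Q⁻¹ (Q⁻¹ (Q⁻¹ y)))
    rw [e]
    refine ⟨by rw [a4, a3, a2, a1, h4], ?_⟩
    rw [b4, b3, b2, b1, a3, a2, a1]
    have h' := hL y.1.1 y.1.2
    simp only [labOk, force_eq, Bool.and_eq_true] at h'
    have e' := eq3_cast h'.1.1.2
    simp only [Nat.add_eq] at e'
    push_cast at e'
    linear_combination e'
  rw [prod_replicate, ← hQ, ← inv_inj, inv_inv, ← inv_pow, show (17 : ℕ) = 1 + 4 * 4 from rfl, pow_add,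
    pow_mul, ← hR, pow_one]
  ext1 y
  rw [Equiv.Perm.mul_apply, show R ^ 4 = R * R * R * R by simp [pow_succ], Equiv.Perm.mul_apply,
    Equiv.Perm.mul_apply, Equiv.Perm.mul_apply]
  obtain ⟨a1, b1⟩ := hQ4 y
  obtain ⟨a2, b2⟩ := hQ4 (R y)
  obtain ⟨a3, b3⟩ := hQ4 (R (R y))
  obtain ⟨a4, b4⟩ := hQ4 (R (R (R y)))
  obtain ⟨a5, b5⟩ := hQ1 (R (R (R (R y))))
  have h := hP y.1.1 y.1.2
  simp only [Fi24.pointOk, Bool.and_eq_true, Nat.beq_eq, Fi24.col19_chain] at h
  simp only [Function.iterate_succ_apply', Function.iterate_zero_apply] at h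
  show _ = (y.1, y.2 + 1)
  refine Prod.ext (Fin.ext ?_) ?_
  · rw [a5, a4, a3, a2, a1]
    exact h.2
  · rw [b5, b4, b3, b2, b1, a4, a3, a2, a1]
    have h' := hL y.1.1 y.1.2
    simp only [labOk, force_eq, Bool.and_eq_true] at h'
    have e' := eq3_cast h'.2
    simp only [Nat.add_eq] at e'
    push_cast at e'
    linear_combination e'

/-- The relators but the spider act trivially. -/
theorem rels_cperm : ∀ l ∈ Fi24.rels, (l.map (cperm hL)).prod = 1 ∨
    (l.map (cperm hL)).prod = (shift hL)⁻¹ := by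
  intro l hl
  rcases List.mem_append.1 hl with hl | hl
  · obtain ⟨g, hg, hk⟩ := List.mem_flatMap.1 hl
    obtain ⟨k, hk, rfl⟩ := List.mem_map.1 hk
    exact Or.inl (pair_word hL (List.mem_range.1 hg) (List.mem_range.1 (by assumption)))
  · simp only [List.mem_cons, List.not_mem_nil, or_false] at hl
    rcases hl with rfl | rfl
    · exact Or.inl (cox_word hL)
    · exact Or.inr (spider_word hL)

end Cfsg.Agent.Lib.Fi24Mult27
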