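import Cfsg.Agent.Lib.Fi24Mult27.LabelSound
import Cfsg.Agent.Lib.Fi24Mult27.CertData

/-!
The rotations of relators used by the certificates take the stored values.
-/

set_option autoImplicit false
set_option maxRecDepth 20000

namespace Cfsg.Agent.Lib.Fi24Mult27

open Cfsg.Agent.Lib.CosetEnum (PTree allBelow allBelow_iff)
open Cfsg.Agent.Lib

/-- The value of a relator in a stage: the one relator in question has the first generator as its value. -/
def baseVal (st r : ℕ) : ℤ × ℤ := if r = (if st = 0 then 2 else 67) then (1, 0) else 0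

/-- The expected value of a rotation. -/
def rotExp (st : ℕ) (s : ℕ × Bool × ℕ) : ℤ × ℤ :=
  turn s.2.2 (if s.2.1 then -baseVal st s.1 else baseVal st s.1)

/-- A stored rotation agrees with its specification. -/
def specOk (st V k : ℕ) : Bool :=
  let s := Fi24.rotSpecs.getD k (0, false, 0)
  rotVal V k % 2 != 1 ||
    (decide (k < Fi24.rotSpecs.length) && decide (s.1 < Fi24.rels.length) && decide (st = 1 ∨ s.1 ≠ 67) &&
      decide (s.2.2 ≤ (Fi24.rels.getD s.1 []).length) && decide ((Fi24.rels.getD s.1 []).length % 2 = 0) &&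
      decide (rotExp st s =
        ((((rotVal V k / 2) % 16 : ℕ) : ℤ) - 8, (((rotVal V k / 32) % 16 : ℕ) : ℤ) - 8)))

theorem specs0_ok : ∀ k < 288, specOk 0 rotVals0 k = true := by decide +kernel

theorem specs1_ok : ∀ k < 288, specOk 1 rotVals1 k = true := by decide +kernel

variable {W : Type*} [Group W] {φ : ℕ → W} {χ : W →* ℤˣ} {a b : W} {H : Subgroup W} {inH : ℕ → Bool}

theorem prod_reverse (hinv : ∀ g < 12, φ g * φ g = 1) :
    ∀ l : List ℕ, (∀ g ∈ l, g < 12) → (l.reverse.map φ).prod = ((l.map φ).prod)⁻¹ := by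
  intro l
  induction l with
  | nil => simp
  | cons x l ih =>
    intro hl
    rw [List.reverse_cons, List.map_append, List.prod_append, ih fun g hg => hl g (List.mem_cons_of_mem _ hg),
      List.map_cons, List.map_cons, List.map_nil, List.prod_cons, List.prod_cons, List.prod_nil, mul_one,
      mul_inv_rev, inv_eq_of_mul_eq_one_right (hinv x (hl x List.mem_cons_self))]

theorem prod_rotate (S : Setting φ χ a b H inH) {l : List ℕ} (hl : ∀ g ∈ l, g < 12) {v : ℤ × ℤ}
    (hp : (l.map φ).prod = val a b v) {n : ℕ} (hn : n ≤ l.length) :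
    ((l.rotate' n).map φ).prod = val a b (turn n v) := by
  rw [← List.rotate_eq_rotate', List.rotate_eq_drop_append_take hn, List.map_append, List.prod_append]
  rw [← List.take_append_drop n l, List.map_append, List.prod_append] at hp
  set u := ((l.take n).map φ).prod with hu
  have hχ : χ u⁻¹ = (-1) ^ n := by
    rw [map_inv, hu, sign_list S _ fun g hg => hl g (List.mem_of_mem_take hg), Int.units_inv_eq_self,
      List.length_take, min_eq_left hn]
  have h := S.mod.pass hχ v
  rw [← hp] at h
  calc ((l.drop n).map φ).prod * u = u⁻¹ * (u * ((l.drop n).map φ).prod) * u := by group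
    _ = _ := by rw [h, inv_mul_cancel_right]

theorem rotOk_of_rels (S : Setting φ χ a b H inH) {st V : ℕ}
    (hrel : ∀ r < Fi24.rels.length, (st = 1 ∨ r ≠ 67) →
      ((Fi24.rels.getD r []).map φ).prod = val a b (baseVal st r))
    (hspec : ∀ k < 288, specOk st V k = true) : RotOk φ Fi24.rotTree a b V := by
  intro k hk hV
  have h := hspec k hk
  simp only [specOk, hV, bne_self_eq_false, Bool.false_or, Bool.and_eq_true, decide_eq_true_eq] at h
  obtain ⟨⟨⟨⟨⟨hk', hr⟩, hst⟩, hn⟩, hev⟩, he⟩ := h
  have hget : Fi24.rots.getD k [] = (if (Fi24.rotSpecs.getD k (0, false, 0)).2.1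
      then (Fi24.rels.getD (Fi24.rotSpecs.getD k (0, false, 0)).1 []).reverse
      else Fi24.rels.getD (Fi24.rotSpecs.getD k (0, false, 0)).1 []).rotate'
        (Fi24.rotSpecs.getD k (0, false, 0)).2.2 := by
    rw [Fi24.rots, List.getD_eq_getElem _ _ (by rw [List.length_map]; exact hk'), List.getElem_map,
      ← List.getD_eq_getElem _ (0, false, 0) hk']
  have hcode : Fi24.rotTree.lookup (fun n _ => n) k = Fi24.Cert.code (Fi24.rots.getD k []) :=
    Nat.eq_of_beq_eq_true (allBelow_iff.1 Fi24.rotTree_ok k hk)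
  have hlt : ∀ g ∈ Fi24.rots.getD k [], g < 12 := by
    intro g hg
    have h := Fi24.rots_lt
    simp only [List.all_eq_true, Nat.blt_eq] at h
    have hlen : k < Fi24.rots.length := by rw [Fi24.rots, List.length_map]; exact hk'
    rw [List.getD_eq_getElem _ _ hlen] at hg
    exact h _ (List.getElem_mem hlen) g hg
  generalize Fi24.rotSpecs.getD k (0, false, 0) = s at hr hst hn hev he hget
  obtain ⟨r, rev, n⟩ := s
  have hl : ∀ g ∈ Fi24.rels.getD r [], g < 12 := by
    intro g hg
    rw [List.getD_eq_getElem _ _ hr] at hg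
    exact (show ∀ l ∈ Fi24.rels, ∀ g ∈ l, g < 12 by decide +kernel) _ (List.getElem_mem hr) g hg
  refine ⟨Fi24.rots.getD k [], hlt, ?_, hcode, ?_⟩
  · rw [hget, List.length_rotate']
    cases rev <;> simpa using hev
  · rw [hget, ← he, rotExp]
    cases rev
    · exact prod_rotate S hl (hrel r hr hst) hn
    · refine prod_rotate S (fun g hg => hl g (List.mem_reverse.1 hg)) ?_ (by simpa using hn)
      simp only [if_true]
      rw [prod_reverse S.invol _ hl, hrel r hr hst, S.mod.val_neg]

end Cfsg.Agent.Lib.Fi24Mult27
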