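import Cfsg.Agent.Lib.Fi24Mult27.Lifts
import Cfsg.Agent.Lib.Fi24Mult27.Rotations
import Cfsg.Agent.Lib.Fi24Mult27.CertChecks

/-!
Two copies of a central extension of the commutator subgroup of the presented Fi24, interchanged by an
involution, satisfy the presentation up to one pair of central elements.
-/

set_option autoImplicit false
set_option maxRecDepth 20000

namespace Cfsg.Agent.Lib.Fi24Mult27

open Cfsg.Agent.Lib
open Cfsg.Agent.Lib.Fi24 (xg)

section

variable (Γ : Type) [Group Γ]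

/-- The involution interchanges two copies. -/
def swapAut : ℤˣ →* MulAut (Γ × Γ) where
  toFun u := if u = 1 then 1 else MulEquiv.prodComm
  map_one' := if_pos rfl
  map_mul' u v := by
    rcases Int.units_eq_one_or u with rfl | rfl <;> rcases Int.units_eq_one_or v with rfl | rfl <;>
      (ext x <;> simp)

/-- Two copies with the interchanging involution. -/
abbrev Double : Type := (Γ × Γ) ⋊[swapAut Γ] ℤˣ

variable {Γ}

/-- The pair as an element. -/
def pair (a b : Γ) : Double Γ := SemidirectProduct.inl (a, b)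

/-- The involution. -/
def flip' : Double Γ := SemidirectProduct.inr (-1)

theorem pair_mul (a b c d : Γ) : pair a b * pair c d = pair (a * c) (b * d) :=
  (map_mul (SemidirectProduct.inl : Γ × Γ →* Double Γ) (a, b) (c, d)).symm

theorem pair_one : pair (1 : Γ) 1 = 1 := map_one (SemidirectProduct.inl : Γ × Γ →* Double Γ)

theorem flip_pair (a b : Γ) : flip' * pair a b = pair b a * flip' := by
  refine SemidirectProduct.ext ?_ ?_
  · show (1 : Γ × Γ) * swapAut Γ (-1) (a, b) = (b, a) * swapAut Γ 1 1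
    simp [swapAut]
  · show (-1 : ℤˣ) * 1 = 1 * -1
    simp

theorem flip_sq : flip' * flip' = (1 : Double Γ) := by
  rw [flip', ← map_mul, Int.units_mul_self, map_one]

/-- A pair followed by a power of the involution. -/
def enc (a b : Γ) (u : ℤˣ) : Double Γ := ⟨(a, b), u⟩

theorem enc_eq (a b : Γ) : enc a b (-1) = pair a b * flip' := by
  refine SemidirectProduct.ext ?_ ?_ <;> simp [enc, flip', pair]

theorem step (a b c d : Γ) (u : ℤˣ) : enc a b (-1) * enc c d u = enc (a * d) (b * c) (-u) := by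
  refine SemidirectProduct.ext ?_ ?_
  · show (a, b) * swapAut Γ (-1) (c, d) = (a * d, b * c)
    simp [swapAut]
  · show (-1 : ℤˣ) * u = -u
    simp

end

variable {Γ : Type} [Group Γ] [Finite Γ] {σ : Γ →* G'}

namespace Lift

variable (L : Lift σ)

omit [Finite Γ]

/-- The two components of the image of a letter. -/
def parts (g : ℕ) : Γ × Γ :=
  if g = 1 then (L.Y⁻¹, L.Y) else if hg : g < 12 ∧ g ≠ 1 then
    (L.s ⟨xg g, xg_mem hg.1 hg.2⟩, L.s ⟨xg g, xg_mem hg.1 hg.2⟩) else (1, 1)

/-- The image of a letter. -/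
def phi (g : ℕ) : Double Γ := enc (L.parts g).1 (L.parts g).2 (-1)

theorem parts_σ {g : ℕ} (hg : g < 12) :
    ((σ (L.parts g).1).1 : G) = xg g * xg 0 ∧ ((σ (L.parts g).2).1 : G) = xg 0 * xg g := by
  rw [parts]
  by_cases h1 : g = 1
  · subst h1
    simp only [if_true]
    refine ⟨?_, L.Y_lift⟩
    rw [map_inv, Subgroup.coe_inv, L.Y_lift, mul_inv_rev, Fi24.xg_inv (by omega), Fi24.xg_inv (by omega)]
  · rw [if_neg h1, dif_pos ⟨hg, h1⟩]
    have h := L.s_odd ⟨xg g, xg_mem hg h1⟩ (sgn_xg g)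
    refine ⟨h, h.trans ?_⟩
    rcases eq_or_ne g 0 with rfl | h0
    · rfl
    have := pair_rel hg (show (0 : ℕ) < 12 by omega) h0
    rwa [(show ∀ g < 12, g ≠ 0 → g ≠ 1 → Fi24.joined g 0 = false by decide +kernel) g hg h0 h1,
      if_neg Bool.false_ne_true] at this

/-- The components of a product of letters lie over the product. -/
theorem prod_σ : ∀ l : List ℕ, (∀ g ∈ l, g < 12) →
    ((σ (l.map L.phi).prod.left.1).1 : G) = (l.map xg).prod * lp l.length ∧
      ((σ (l.map L.phi).prod.left.2).1 : G) = xg 0 * (l.map xg).prod * lp (l.length + 1) ∧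
      (l.map L.phi).prod.right = (-1) ^ l.length := by
  intro l
  induction l with
  | nil => simp [lp, pow_succ, Fi24.xg_sq]
  | cons g l ih =>
    intro hl
    obtain ⟨h1, h2, h3⟩ := ih fun x hx => hl x (List.mem_cons_of_mem _ hx)
    obtain ⟨p1, p2⟩ := L.parts_σ (hl g List.mem_cons_self)
    have e : ((g :: l).map L.phi).prod = enc ((L.parts g).1 * (l.map L.phi).prod.left.2)
        ((L.parts g).2 * (l.map L.phi).prod.left.1) (-(l.map L.phi).prod.right) := by
      rw [List.map_cons, List.prod_cons, phi]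
      exact step _ _ _ _ _
    rw [e]
    simp only [enc, List.map_cons, List.prod_cons, List.length_cons]
    refine ⟨?_, ?_, by rw [h3, pow_succ]; simp⟩
    · rw [map_mul, Subgroup.coe_mul, p1, h2]
      simp only [← mul_assoc]
      rw [mul_assoc (xg g) (xg 0) (xg 0), Fi24.xg_sq (by omega), mul_one]
    · rw [map_mul, Subgroup.coe_mul, p2, h1]
      have hlp : lp (l.length + 1 + 1) = lp l.length := by
        rw [lp, lp, pow_succ, pow_succ, mul_assoc, Fi24.xg_sq (by omega), mul_one]
      rw [hlp]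
      simp only [mul_assoc]

/-- The sign. -/
abbrev chi : Double Γ →* ℤˣ := SemidirectProduct.rightHom

theorem phi_sq {g : ℕ} (hg : g < 12) : L.phi g * L.phi g = 1 := by
  rw [phi, step, neg_neg, parts]
  by_cases h1 : g = 1
  · simp [h1, enc]; rfl
  · rw [if_neg h1, dif_pos ⟨hg, h1⟩]
    simp only [← map_mul]
    rw [show (⟨xg g, xg_mem hg h1⟩ * ⟨xg g, xg_mem hg h1⟩ : Fi24.H) = 1 from Subtype.ext (Fi24.xg_sq hg),
      map_one]
    rfl

/-- The point stabiliser inside the double. -/
noncomputable def emb : Fi24.H →* Double Γ :=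
  MonoidHom.mk' (fun h => enc (L.s h) (L.s h) (sgn h.1)) fun a b => by
    rcases Int.units_eq_one_or (sgn a.1) with e | e <;>
      refine SemidirectProduct.ext ?_ (map_mul sgn a.1 b.1) <;>
      · show (L.s (a * b), L.s (a * b)) = (L.s a, L.s a) * swapAut Γ (sgn a.1) (L.s b, L.s b)
        rw [e]; simp [swapAut]

theorem emb_xg {g : ℕ} (hg : g < 12) (hg1 : g ≠ 1) : L.phi g = L.emb ⟨xg g, xg_mem hg hg1⟩ := by
  show L.phi g = enc _ _ (sgn _)
  rw [phi, parts, if_neg hg1, dif_pos ⟨hg, hg1⟩, sgn_xg]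

theorem emb_prod {l : List ℕ} (hl : ∀ g ∈ l, g < 12 ∧ g ≠ 1) (h : (l.map xg).prod = 1) :
    (l.map L.phi).prod = 1 := by
  have key : ∀ l : List ℕ, (∀ g ∈ l, g < 12 ∧ g ≠ 1) →
      ∃ w : Fi24.H, w.1 = (l.map xg).prod ∧ (l.map L.phi).prod = L.emb w := by
    intro l
    induction l with
    | nil => exact fun _ => ⟨1, rfl, by simp⟩
    | cons g l ih =>
      intro hl
      obtain ⟨w, hw, hw'⟩ := ih fun x hx => hl x (List.mem_cons_of_mem _ hx)
      obtain ⟨hg, hg1⟩ := hl g List.mem_cons_self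
      exact ⟨⟨xg g, xg_mem hg hg1⟩ * w, by rw [Subgroup.coe_mul, hw]; simp,
        by rw [List.map_cons, List.prod_cons, hw', L.emb_xg hg hg1, map_mul]⟩
  obtain ⟨w, hw, hw'⟩ := key l hl
  rw [hw', show w = 1 from Subtype.ext (hw.trans h), map_one]

/-- A pair of central elements in the image of the stabiliser is trivial. -/
theorem emb_range {z1 z2 : Γ} (hz1 : σ z1 = 1) (h : pair z1 z2 ∈ L.emb.range) : z1 = 1 ∧ z2 = 1 := by
  obtain ⟨w, hw⟩ := h
  have e : enc (L.s w) (L.s w) (sgn w.1) = pair z1 z2 := hw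
  have e1 : (L.s w, L.s w) = (z1, z2) := congrArg SemidirectProduct.left e
  have e2 : sgn w.1 = 1 := congrArg SemidirectProduct.right e
  obtain ⟨a, b⟩ := Prod.mk.inj e1
  have hw1 : w.1 = 1 := by rw [← L.s_even w e2, a, hz1]; rfl
  rw [show w = 1 from Subtype.ext hw1, map_one] at a b
  exact ⟨a.symm, b.symm⟩

/-- Relators without the letter `k` and the one of the pair `k, a` hold. -/
theorem rel_exact {r : ℕ} (hr : r < Fi24.rels.length) (h2 : r ≠ 2) (h67 : r ≠ 67) :
    ((Fi24.rels.getD r []).map L.phi).prod = 1 := by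
  have hd : (∀ g ∈ Fi24.rels.getD r [], g < 12 ∧ g ≠ 1) ∨ Fi24.rels.getD r [] = [1, 0, 1, 0, 1, 0] ∨
      ∃ g < 12, 3 ≤ g ∧ Fi24.rels.getD r [] = [g, 1, g, 1] := by
    have key : ((List.range Fi24.rels.length).all fun r => r == 2 || r == 67 ||
        (Fi24.rels.getD r []).all (fun g => decide (g < 12) && g != 1) ||
        Fi24.rels.getD r [] == [1, 0, 1, 0, 1, 0] ||
        (List.range 12).any (fun g => decide (3 ≤ g) && Fi24.rels.getD r [] == [g, 1, g, 1])) = true := by
      decide +kernel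
    simp only [List.all_eq_true, List.mem_range, Bool.or_eq_true, Bool.and_eq_true, beq_iff_eq,
      decide_eq_true_eq, bne_iff_ne, List.any_eq_true] at key
    rcases key r hr with (((h | h) | h) | h) | ⟨g, hg, h3, h⟩
    · exact absurd h h2
    · exact absurd h h67
    · exact Or.inl h
    · exact Or.inr (Or.inl h)
    · exact Or.inr (Or.inr ⟨g, hg, h3, h⟩)
  rcases hd with h | h | ⟨g, hg, h3, h⟩
  · refine L.emb_prod h ?_
    rw [List.getD_eq_getElem _ _ hr]
    exact (Fi24.rels_one _ (List.getElem_mem hr)).2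
  · rw [h]
    have e : L.phi 1 * L.phi 0 = pair L.Y⁻¹ L.Y := by
      rw [phi, phi, step, parts, parts, if_pos rfl, if_neg (by omega), dif_pos (by omega)]
      simp only [L.s_l, mul_one, neg_neg]
      rfl
    simp only [List.map_cons, List.map_nil, List.prod_cons, List.prod_nil, mul_one]
    calc L.phi 1 * (L.phi 0 * (L.phi 1 * (L.phi 0 * (L.phi 1 * L.phi 0))))
        = (L.phi 1 * L.phi 0) * (L.phi 1 * L.phi 0) * (L.phi 1 * L.phi 0) := by simp only [mul_assoc]
      _ = pair (L.Y⁻¹ ^ 3) (L.Y ^ 3) := by rw [e, pair_mul, pair_mul]; simp [pow_succ, mul_assoc]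
      _ = 1 := by rw [inv_pow, L.Y_cube, inv_one, pair_one]
  · rw [h]
    set T := L.s ⟨xg g, xg_mem hg (by omega)⟩ with hT
    have e : L.phi g * L.phi 1 = pair (T * L.Y) (T * L.Y⁻¹) := by
      rw [phi, phi, step, parts, parts, if_pos rfl, if_neg (by omega), dif_pos ⟨hg, by omega⟩]
      simp only [neg_neg]
      rfl
    have hi : T * L.Y * T = L.Y⁻¹ := L.Y_inv g hg h3
    have hT2 : T⁻¹ = T := by
      refine inv_eq_of_mul_eq_one_right ?_
      rw [hT, ← map_mul,
        show (⟨xg g, xg_mem hg (by omega)⟩ * ⟨xg g, xg_mem hg (by omega)⟩ : Fi24.H) = 1 from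
          Subtype.ext (Fi24.xg_sq hg), map_one]
    have hi' : T * L.Y⁻¹ * T = L.Y := by
      have := congrArg (·⁻¹) hi
      simpa only [mul_inv_rev, hT2, inv_inv, ← mul_assoc] using this
    simp only [List.map_cons, List.map_nil, List.prod_cons, List.prod_nil, mul_one]
    calc L.phi g * (L.phi 1 * (L.phi g * L.phi 1)) = (L.phi g * L.phi 1) * (L.phi g * L.phi 1) := by
          simp only [mul_assoc]
      _ = pair (T * L.Y * T * L.Y) (T * L.Y⁻¹ * T * L.Y⁻¹) := by rw [e, pair_mul]; simp [mul_assoc]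
      _ = 1 := by rw [hi, hi', inv_mul_cancel, mul_inv_cancel, pair_one]

end Lift

end Cfsg.Agent.Lib.Fi24Mult27
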