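import Cfsg.Agent.Lib.Fi24.Main
import Cfsg.Agent.S1697
import Cfsg.Agent.S1691

/-!
The parity of the presented Fi24, the copy of Fi23 in its commutator subgroup, and maps out of the
presentation given by values of words.
-/

set_option autoImplicit false
set_option maxRecDepth 20000

namespace Cfsg.Agent.Lib.Fi24Mult27

open Cfsg.Agent.Lib
open Cfsg.Agent.Lib.Fi24 (xg genOf col pres rels cox spider)
open Cfsg.Spor (Fi24.Gen)
open scoped commutatorElement

/-- The presented Fi24. -/
abbrev G : Type := Cfsg.Spor.Fi24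

theorem sgn_rels : ∀ r ∈ pres, FreeGroup.lift (fun _ : Fi24.Gen => (-1 : ℤˣ)) r = 1 := by
  rintro r (⟨x, -, y, -, rfl⟩ | hr)
  · rw [map_pow, map_mul, FreeGroup.lift_apply_of, FreeGroup.lift_apply_of, Int.units_mul_self, one_pow]
  · simp only [Cfsg.Spor.Fi24.extra, List.mem_cons, List.not_mem_nil, or_false, Set.mem_ofPred_eq] at hr
    rcases hr with rfl | rfl <;> simp only [map_mul, map_inv, map_pow, FreeGroup.lift_apply_of] <;> decide

/-- The parity. -/
def sgn : G →* ℤˣ := PresentedGroup.toGroup sgn_rels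

theorem sgn_xg (g : ℕ) : sgn (xg g) = -1 := PresentedGroup.toGroup.of _

theorem sgn_prod (l : List ℕ) : sgn (l.map xg).prod = (-1) ^ l.length := by
  induction l with
  | nil => simp
  | cons g l ih => rw [List.map_cons, List.prod_cons, map_mul, sgn_xg, ih, List.length_cons, pow_succ']

theorem mem_derived {x : G} : x ∈ commutator G ↔ sgn x = 1 := by
  suffices commutator G = sgn.ker by rw [this]; rfl
  have hle : commutator G ≤ sgn.ker := Abelianization.commutator_subset_ker sgn
  have h2 : (commutator G).index = 2 := Cfsg.Agent.S1691.result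
  have : Finite G := Fi24.finite_G
  refine Subgroup.eq_of_le_of_card_ge hle ?_
  have hne : sgn.ker.index ≠ 1 := by
    rw [ne_eq, Subgroup.index_eq_one]
    intro h
    have : sgn (xg 0) = 1 := show xg 0 ∈ sgn.ker by rw [h]; trivial
    rw [sgn_xg] at this
    exact absurd this (by decide)
  have hd := Subgroup.index_dvd_of_le hle
  rw [h2] at hd
  have h3 : sgn.ker.index = 2 := ((Nat.dvd_prime Nat.prime_two).1 hd).resolve_left hne
  have e1 := (commutator G).card_mul_index
  have e2 := sgn.ker.card_mul_index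
  rw [h2] at e1
  rw [h3] at e2
  omega

theorem exists_list (x : G) : ∃ l : List ℕ, (∀ g ∈ l, g < 12) ∧ (l.map xg).prod = x := by
  have hx : x ∈ Subgroup.closure {y : G | ∃ g < 12, xg g = y} := by
    rw [Fi24.gen_closure]; trivial
  induction hx using Subgroup.closure_induction with
  | mem y hy => obtain ⟨g, hg, rfl⟩ := hy; exact ⟨[g], by simpa using hg, by simp⟩
  | one => exact ⟨[], by simp, by simp⟩
  | mul a b _ _ ha hb =>
    obtain ⟨u, hu, rfl⟩ := ha
    obtain ⟨v, hv, rfl⟩ := hb
    exact ⟨u ++ v, fun g hg => (List.mem_append.1 hg).elim (hu g) (hv g), by simp⟩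
  | inv a _ ha =>
    obtain ⟨u, hu, rfl⟩ := ha
    exact ⟨u.reverse, fun g hg => hu g (List.mem_reverse.1 hg), Fi24.prod_reverse hu⟩

theorem xg_mem {g : ℕ} (hg : g < 12) (hg1 : g ≠ 1) : xg g ∈ Fi24.H :=
  Subgroup.subset_closure ⟨g, hg, hg1, rfl⟩

theorem finite_Fi23 : Finite Cfsg.Spor.Fi23 := Nat.finite_of_card_ne_zero (by
  obtain ⟨ρ, ρJ, -, -, -, -, -, -, -, -, hG, -⟩ := CosetEnum.Fi23Orbit.main
  rw [hG]; norm_num)

theorem perfect_Fi23 : commutator Cfsg.Spor.Fi23 = ⊤ := by
  obtain ⟨hs, hc⟩ := Cfsg.Agent.S1697.result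
  have := hs
  rcases (inferInstance : (commutator Cfsg.Spor.Fi23).Normal).eq_bot_or_eq_top with h | h
  · exfalso
    let _ : CommGroup Cfsg.Spor.Fi23 :=
      { (inferInstance : Group Cfsg.Spor.Fi23) with
        mul_comm := fun a b => by
          have : ⁅a, b⁆ ∈ commutator Cfsg.Spor.Fi23 :=
            Subgroup.commutator_mem_commutator (Subgroup.mem_top a) (Subgroup.mem_top b)
          rw [h, Subgroup.mem_bot, commutatorElement_eq_one_iff_mul_comm] at this
          exact this }
    have hp := IsSimpleGroup.prime_card (α := Cfsg.Spor.Fi23)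
    rw [hc] at hp
    exact absurd hp (by norm_num)
  · exact h

/-- The even element of the point stabiliser over an element of Fi23. -/
theorem exists_even_section : ∃ (σ : Fi24.H →* Cfsg.Spor.Fi23) (e : Cfsg.Spor.Fi23 →* G),
    (∀ y, sgn (e y) = 1) ∧ σ ⟨xg 0, xg_mem (by omega) (by omega)⟩ = 1 ∧
      ∀ h : Fi24.H, (sgn h.1 = 1 → e (σ h) = h.1) ∧ (sgn h.1 = -1 → e (σ h) = h.1 * xg 0) := by
  obtain ⟨ρ, σ, -, -, -, -, hsur, hker, -, -, -, -⟩ := Fi24.hFacts
  let lH : Fi24.H := ⟨xg 0, xg_mem (by omega) (by omega)⟩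
  have hl : σ lH = 1 := (hker lH).2 (Or.inr rfl)
  have hex : ∀ y, ∃ h : Fi24.H, σ h = y ∧ sgn h.1 = 1 := by
    intro y
    obtain ⟨h, rfl⟩ := hsur y
    rcases Int.units_eq_one_or (sgn h.1) with e | e
    · exact ⟨h, rfl, e⟩
    · exact ⟨h * lH, by rw [map_mul, hl, mul_one], by
        rw [Subgroup.coe_mul, map_mul, e, sgn_xg]; decide⟩
  have huniq : ∀ h h' : Fi24.H, σ h = σ h' → sgn h.1 = 1 → sgn h'.1 = 1 → h = h' := by
    intro h h' e e1 e2
    rcases (hker (h⁻¹ * h')).1 (by rw [map_mul, map_inv, e, inv_mul_cancel]) with k | k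
    · exact inv_mul_eq_one.1 (Subtype.ext k)
    · exfalso
      have := congrArg sgn k
      rw [Subgroup.coe_mul, Subgroup.coe_inv, map_mul, map_inv, e1, e2, sgn_xg] at this
      exact absurd this (by decide)
  choose f hf hf' using hex
  let e : Cfsg.Spor.Fi23 →* G := MonoidHom.mk' (fun y => (f y).1) fun a b => by
    show (f (a * b)).1 = (f a * f b).1
    rw [huniq (f (a * b)) (f a * f b) (by rw [map_mul, hf, hf, hf]) (hf' _)
      (by rw [Subgroup.coe_mul, map_mul, hf', hf', one_mul])]
  refine ⟨σ, e, hf', hl, fun h => ⟨fun hh => congrArg Subtype.val (huniq _ h (hf _) (hf' _) hh), fun hh => ?_⟩⟩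
  exact congrArg Subtype.val (huniq (f (σ h)) (h * lH) (by rw [hf, map_mul, hl, mul_one]) (hf' _)
    (by rw [Subgroup.coe_mul, map_mul, hh, sgn_xg]; decide))

section

variable {M : Type} [Group M] (p : ℕ → M)

theorem prod_replicate (n : ℕ) (l : List ℕ) :
    ((List.replicate n l).flatten.map p).prod = (l.map p).prod ^ n := by
  induction n with
  | zero => simp
  | succ n ih => rw [List.replicate_succ, List.flatten_cons, List.map_append, List.prod_append, ih, pow_succ']

theorem pair_mem {g k : ℕ} (hg : g < 12) (hk : k < g) :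
    (if Nat.testBit Fi24.adjM (12 * g + k) then [g, k, g, k, g, k] else [g, k, g, k]) ∈ rels :=
  List.mem_append_left _ (List.mem_flatMap.2
    ⟨g, List.mem_range.2 hg, List.mem_map.2 ⟨k, List.mem_range.2 hk, rfl⟩⟩)

variable {p}

/-- Values for the letters that kill all relators satisfy the presentation. -/
theorem lift_rels (hsq : ∀ g < 12, p g * p g = 1) (hrel : ∀ l ∈ rels, (l.map p).prod = 1) :
    ∀ r ∈ pres, FreeGroup.lift (fun x => p (col x)) r = 1 := by
  rintro r (⟨x, -, y, -, rfl⟩ | hr)
  · rw [map_pow, map_mul, FreeGroup.lift_apply_of, FreeGroup.lift_apply_of, Fi24.coxLabel_eq]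
    have hx := Fi24.col_lt x
    have hy := Fi24.col_lt y
    generalize col x = a at hx ⊢
    generalize col y = b at hy ⊢
    rcases eq_or_ne a b with rfl | hne
    · rw [if_pos rfl, pow_one]; exact hsq a hx
    rw [if_neg hne]
    have key : ∀ g k, k < g → g < 12 → (p g * p k) ^ (if Fi24.joined g k then 3 else 2) = 1 := by
      intro g k hk hg
      have h := hrel _ (pair_mem hg hk)
      rw [Fi24.joined, max_eq_left hk.le, min_eq_right hk.le]
      split_ifs at h ⊢ <;> simpa [pow_succ, mul_assoc] using h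
    rcases lt_or_gt_of_ne hne with hab | hab
    · have h := key b a hab hy
      rw [show Fi24.joined b a = Fi24.joined a b by simp [Fi24.joined, max_comm, min_comm]] at h
      rw [show p a * p b = (p b * p a)⁻¹ by
        rw [mul_inv_rev, inv_eq_of_mul_eq_one_right (hsq a hx), inv_eq_of_mul_eq_one_right (hsq b hy)],
        inv_pow, h, inv_one]
    · exact key a b hab hx
  · simp only [Cfsg.Spor.Fi24.extra, List.mem_cons, List.not_mem_nil, or_false, Set.mem_ofPred_eq] at hr
    have hrev : ∀ g < 12, (p g)⁻¹ = p g := fun g hg => inv_eq_of_mul_eq_one_right (hsq g hg)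
    rcases hr with rfl | rfl
    · simp only [map_mul, map_inv, map_pow, FreeGroup.lift_apply_of, col, ← inv_pow, mul_inv_rev,
        hrev 2 (by omega), hrev 3 (by omega), hrev 4 (by omega), hrev 5 (by omega), hrev 6 (by omega),
        hrev 7 (by omega), hrev 10 (by omega)]
      have h := hrel (0 :: (List.replicate 9 cox).flatten) (List.mem_append_right _ List.mem_cons_self)
      rw [List.map_cons, List.prod_cons, prod_replicate] at h
      simpa only [cox, List.map_cons, List.map_nil, List.prod_cons, List.prod_nil, mul_one, mul_assoc] using h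
    · simp only [map_mul, map_pow, FreeGroup.lift_apply_of, col]
      have h := hrel (List.replicate 17 spider).flatten
        (List.mem_append_right _ (List.mem_cons_of_mem _ List.mem_cons_self))
      rw [prod_replicate] at h
      simpa only [spider, List.map_cons, List.map_nil, List.prod_cons, List.prod_nil, mul_one, mul_assoc] using h

end

end Cfsg.Agent.Lib.Fi24Mult27
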