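import Cfsg.Agent.Lib.Fi24.Words
import Cfsg.Agent.Lib.Fi24.Data.Table

/-!
Certificates for an extension of the presented Fi24 by an abelian group with two generators that the
letters interchange: pairs of exponents on some edges of the coset table.

A tree of rows, one leaf for each point used: the point in bits 0-18, the parity of its depth in bit
19, and for letter `g` at bit `20 + 18 g` two flags (one for each of two stages) and two pairs of
exponents in four-bit fields with offset 8.
-/

set_option autoImplicit false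

namespace Cfsg.Agent.Lib.Fi24Mult27

open Cfsg.Agent.Lib.CosetEnum (PTree force allBelow)
open Cfsg.Agent.Lib.Fi24 (Cert.row Cert.ent Cert.jent Cert.parent)

/-- The leaf for a point. -/
noncomputable def leaf (L : PTree) (i : ℕ) : ℕ := L.lookup (fun n _ => n) i

/-- The point of a leaf. -/
def lpt (n : ℕ) : ℕ := Nat.mod n 524288

/-- The parity of a leaf. -/
def ldep (n : ℕ) : ℕ := Nat.mod (Nat.shiftRight n 19) 2

/-- The field of a letter. -/
def fld (n g : ℕ) : ℕ := Nat.mod (Nat.shiftRight n (Nat.add 20 (Nat.mul 18 g))) 262144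

/-- The flag of a stage. -/
def flag (st n g : ℕ) : Bool := Nat.beq (Nat.mod (Nat.shiftRight (fld n g) st) 2) 1

/-- The first exponent, with offset. -/
def ex1 (st n g : ℕ) : ℕ := Nat.mod (Nat.shiftRight (fld n g) (Nat.add 2 (Nat.mul 8 st))) 16

/-- The second exponent, with offset. -/
def ex2 (st n g : ℕ) : ℕ := Nat.mod (Nat.shiftRight (fld n g) (Nat.add 6 (Nat.mul 8 st))) 16

/-- Select by parity. -/
noncomputable def sel (p x y : ℕ) : ℕ := Bool.rec y x (Nat.beq (Nat.mod p 2) 0)

/-- A point has a row. -/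
noncomputable def hasRow (L : PTree) (i : ℕ) : Bool := Nat.beq (lpt (leaf L i)) i

/-- An edge carries exponents. -/
noncomputable def hasEdge (L : PTree) (st i g : ℕ) : Bool := hasRow L i && flag st (leaf L i) g

/-- The exponents of a rotation: allowed flag, then two fields of four bits with offset 8. -/
def rotVal (V k : ℕ) : ℕ := Nat.mod (Nat.shiftRight V (Nat.mul 9 k)) 512

/-- Follow a coded word from `c`, adding exponents; `dt` is the parity of the start, `n` the number of
letters so far; the continuation receives the end. -/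
noncomputable def lwalk (T L : PTree) (st d dt fuel : ℕ) :
    ℕ → ℕ → ℕ → ℕ → ℕ → (ℕ → ℕ → ℕ → ℕ → Bool) → Bool :=
  Nat.rec (motive := fun _ => ℕ → ℕ → ℕ → ℕ → ℕ → (ℕ → ℕ → ℕ → ℕ → Bool) → Bool)
    (fun w c U1 U2 n cont => Nat.beq w 0 && cont c U1 U2 n)
    (fun _ ih w c U1 U2 n cont => Bool.rec
      (force (Nat.sub (Nat.mod w 16) 1) fun g => force (Cert.row T c) fun r => force (leaf L c) fun e =>
        Nat.beq (lpt e) c && flag st e g && Nat.blt (Nat.div (Cert.jent r g) 320) d &&
        force (Nat.add (Nat.add dt (ldep e)) n) fun p =>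
        force (Nat.add U1 (sel p (ex1 st e g) (ex2 st e g))) fun V1 =>
        force (Nat.add U2 (sel p (ex2 st e g) (ex1 st e g))) fun V2 =>
        force (Nat.add n 1) fun n' => force (Cert.ent r g) fun c' =>
        force (Nat.div w 16) fun w' => ih w' c' V1 V2 n' cont)
      (cont c U1 U2 n) (Nat.beq w 0)) fuel

/-- The exponents of an edge are justified by its justification in the table. -/
noncomputable def edgeOk (T P R L : PTree) (inH : ℕ → Bool) (V st e g : ℕ) : Bool :=
  force (lpt e) fun i => force (Cert.row T i) fun r => force (Cert.jent r g) fun j =>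
  force (Nat.mod j 320) fun k => force (Cert.ent r g) fun t => force (ex1 st e g) fun u1 =>
  force (ex2 st e g) fun u2 =>
    (Nat.beq k 0 && Nat.beq u1 8 && Nat.beq u2 8 &&
      ((Nat.blt i t && Nat.beq (Cert.parent P t) (Nat.add (Nat.mul 16 i) g)) ||
        (Nat.blt t i && Nat.beq (Cert.parent P i) (Nat.add (Nat.mul 16 t) g)))) ||
    (Nat.beq k 1 && Nat.beq i 0 && Nat.beq t 0 && inH g && Nat.beq u1 8 && Nat.beq u2 8) ||
    (Nat.beq k 2 && Nat.blt t i && force (Cert.row T t) fun rt => force (leaf L t) fun f =>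
      Nat.beq (Cert.ent rt g) i && Nat.ble (Nat.div (Cert.jent rt g) 320) (Nat.div j 320) &&
      Nat.beq (lpt f) t && flag st f g &&
      force (Nat.add (Nat.add (ldep e) (ldep f)) 1) fun p =>
      Nat.beq (Nat.add u1 (sel p (ex1 st f g) (ex2 st f g))) 16 &&
      Nat.beq (Nat.add u2 (sel p (ex2 st f g) (ex1 st f g))) 16) ||
    (Nat.ble 3 k && Nat.blt k 291 &&
      force (rotVal V (Nat.sub k 3)) fun v => Nat.beq (Nat.mod v 2) 1 &&
      force (R.lookup (fun n _ => n) (Nat.sub k 3)) fun w => Nat.beq (Nat.mod w 16) (Nat.add g 1) &&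
      force (leaf L t) fun f => Nat.beq (lpt f) t &&
      force (ldep f) fun dt =>
      lwalk T L st (Nat.div j 320) dt 256 (Nat.div w 16) t 0 0 0 fun c U1 U2 n =>
        Nat.beq c i && force (Nat.add (Nat.add (ldep e) dt) 1) fun p =>
        force (Nat.mod (Nat.shiftRight v 1) 16) fun v1 => force (Nat.mod (Nat.shiftRight v 5) 16) fun v2 =>
        Nat.beq (Nat.add u1 (sel p U1 U2)) (Nat.add (sel (ldep e) v1 v2) (Nat.mul 8 n)) &&
        Nat.beq (Nat.add u2 (sel p U2 U1)) (Nat.add (sel (ldep e) v2 v1) (Nat.mul 8 n)))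

/-- A leaf is well formed. -/
noncomputable def leafOk (T P R L : PTree) (inH : ℕ → Bool) (V0 V1 e : ℕ) : Bool :=
  force (lpt e) fun i =>
    (Bool.rec
      (force (Cert.parent P i) fun q => force (Nat.div q 16) fun u => force (leaf L u) fun f =>
        Nat.blt u i && Nat.blt (Nat.mod q 16) 12 && Nat.beq (lpt f) u &&
          Nat.beq (Nat.add (ldep f) (ldep e)) 1)
      (Nat.beq (ldep e) 0) (Nat.beq i 0)) &&
    allBelow 12 fun g =>
      (Bool.rec true (edgeOk T P R L inH V0 0 e g) (flag 0 e g)) &&
      (Bool.rec true (edgeOk T P R L inH V1 1 e g) (flag 1 e g))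

/-- Every leaf of a tree passes a test. -/
noncomputable def allLeaves (p : ℕ → Bool) (L : PTree) : Bool :=
  PTree.rec (motive := fun _ => Bool) (fun n => p n) (fun _ _ _ hl hr => hl && hr) L

/-- A loop at `i` for a coded word of value `(v1, v2)`: its defect is `(D1, D2)` with offset 16. -/
noncomputable def loopOk (T L : PTree) (st w i v1 v2 D1 D2 : ℕ) : Bool :=
  force (leaf L i) fun e => Nat.beq (lpt e) i &&
    lwalk T L st 1000000 (ldep e) 256 w i 0 0 0 fun c U1 U2 n =>
      Nat.beq c i && Nat.beq (Nat.add (Nat.add (sel (ldep e) v1 v2) (Nat.mul 8 n)) 8) (Nat.add U1 D1) &&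
        Nat.beq (Nat.add (Nat.add (sel (ldep e) v2 v1) (Nat.mul 8 n)) 8) (Nat.add U2 D2) &&
        Nat.beq (Nat.mod n 2) 0

end Cfsg.Agent.Lib.Fi24Mult27
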