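import Cfsg.Agent.Lib.Fi24Mult27.LabelDefs

/-!
Soundness of the certificates of exponents.
-/

set_option autoImplicit false

namespace Cfsg.Agent.Lib.Fi24Mult27

open Cfsg.Agent.Lib.CosetEnum (PTree force force_eq allBelow allBelow_iff)
open Cfsg.Agent.Lib.Fi24

variable {W : Type*} [Group W]

/-- Two commuting elements interchanged by the odd elements and fixed by the even ones. -/
structure Module (χ : W →* ℤˣ) (a b : W) : Prop where
  comm : Commute a b
  even : ∀ w, χ w = 1 → w * a * w⁻¹ = a ∧ w * b * w⁻¹ = b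
  odd : ∀ w, χ w = -1 → w * a * w⁻¹ = b ∧ w * b * w⁻¹ = a
  sign₁ : χ a = 1
  sign₂ : χ b = 1

/-- The element with the given exponents. -/
def val (a b : W) (s : ℤ × ℤ) : W := a ^ s.1 * b ^ s.2

/-- Interchange exponents according to a parity. -/
def turn (p : ℕ) (s : ℤ × ℤ) : ℤ × ℤ := if p % 2 = 0 then s else (s.2, s.1)

theorem sel_eq (p x y : ℕ) : sel p x y = if p % 2 = 0 then x else y := by
  rw [sel]
  by_cases h : p % 2 = 0
  · rw [show Nat.beq (Nat.mod p 2) 0 = true from (Nat.beq_eq ..).mpr h, if_pos h]
  · rw [show Nat.beq (Nat.mod p 2) 0 = false from Bool.eq_false_iff.2 fun e => h ((Nat.beq_eq ..).mp e),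
      if_neg h]

theorem sel_cast (p u v : ℕ) :
    ((sel p u v : ℕ) : ℤ) - 8 = (turn p ((u : ℤ) - 8, (v : ℤ) - 8)).1 ∧
      ((sel p v u : ℕ) : ℤ) - 8 = (turn p ((u : ℤ) - 8, (v : ℤ) - 8)).2 := by
  simp only [sel_eq, turn]
  split_ifs <;> simp

theorem turn_mod {p q : ℕ} (h : p % 2 = q % 2) (s : ℤ × ℤ) : turn p s = turn q s := by
  simp only [turn, h]

theorem turn_turn (p q : ℕ) (s : ℤ × ℤ) : turn p (turn q s) = turn (p + q) s := by
  simp only [turn]
  split_ifs <;> first | rfl | omega

theorem turn_add (p : ℕ) (s t : ℤ × ℤ) : turn p (s + t) = turn p s + turn p t := by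
  simp only [turn]; split_ifs <;> rfl

theorem turn_neg (p : ℕ) (s : ℤ × ℤ) : turn p (-s) = -turn p s := by
  simp only [turn]; split_ifs <;> rfl

namespace Module

variable {χ : W →* ℤˣ} {a b : W}

theorem val_add (M : Module χ a b) (s t : ℤ × ℤ) : val a b (s + t) = val a b s * val a b t := by
  simp only [val, Prod.fst_add, Prod.snd_add, zpow_add]
  have := (M.comm.zpow_zpow t.1 s.2).eq
  simp only [mul_assoc]
  rw [← mul_assoc (a ^ t.1), this, mul_assoc]

theorem val_zero : val a b 0 = 1 := by simp [val]

theorem val_neg (M : Module χ a b) (s : ℤ × ℤ) : val a b (-s) = (val a b s)⁻¹ :=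
  eq_inv_of_mul_eq_one_left (by rw [← M.val_add, neg_add_cancel, val_zero])

theorem sign_val (M : Module χ a b) (s : ℤ × ℤ) : χ (val a b s) = 1 := by
  simp [val, M.sign₁, M.sign₂]

theorem conj_zpow (w x : W) (n : ℤ) : w * x ^ n * w⁻¹ = (w * x * w⁻¹) ^ n := by
  simpa using map_zpow (MulAut.conj w).toMonoidHom x n

/-- An element of parity `p` moves a value past itself by interchanging exponents. -/
theorem pass (M : Module χ a b) {w : W} {p : ℕ} (hw : χ w = (-1) ^ p) (s : ℤ × ℤ) :
    w * val a b s = val a b (turn p s) * w := by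
  have key : w * val a b s * w⁻¹ = val a b (turn p s) := by
    rw [val, show w * (a ^ s.1 * b ^ s.2) * w⁻¹ = (w * a ^ s.1 * w⁻¹) * (w * b ^ s.2 * w⁻¹) by group,
      conj_zpow, conj_zpow]
    by_cases hp : p % 2 = 0
    · rw [Even.neg_one_pow (Nat.even_iff.2 hp)] at hw
      rw [(M.even w hw).1, (M.even w hw).2, turn, if_pos hp]
      rfl
    · rw [Odd.neg_one_pow (Nat.odd_iff.2 (by omega))] at hw
      rw [(M.odd w hw).1, (M.odd w hw).2, turn, if_neg hp]
      exact (M.comm.symm.zpow_zpow _ _).eq
  rw [← key, inv_mul_cancel_right]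

end Module

theorem lookup_mem {p : ℕ → Bool} {L : PTree} (h : allLeaves p L = true) (i : ℕ) :
    p (leaf L i) = true := by
  induction L with
  | leaf n => exact h
  | node m l r ihl ihr =>
    change (allLeaves p l && allLeaves p r) = true at h
    rw [Bool.and_eq_true] at h
    show p (Bool.rec (leaf r i) (leaf l i) (Nat.ble (Nat.succ i) m)) = true
    cases Nat.ble (Nat.succ i) m
    · exact ihr h.2
    · exact ihl h.1

/-- What is assumed of the extension. -/
structure Setting (φ : ℕ → W) (χ : W →* ℤˣ) (a b : W) (H : Subgroup W) (inH : ℕ → Bool) : Prop where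
  mod : Module χ a b
  invol : ∀ g < 12, φ g * φ g = 1
  sign : ∀ g < 12, χ (φ g) = -1
  mem : ∀ g < 12, inH g = true → φ g ∈ H

/-- The exponents in a leaf. -/
def exps (st e g : ℕ) : ℤ × ℤ := ((ex1 st e g : ℤ) - 8, (ex2 st e g : ℤ) - 8)

/-- The exponents of a point and a letter hold in the extension. -/
def EdgeV (φ : ℕ → W) (P T L : PTree) (H : Subgroup W) (a b : W) (st i g : ℕ) : Prop :=
  (val a b (exps st (leaf L i) g))⁻¹ *
    (Cert.rep φ P i * φ g * (Cert.rep φ P (Cert.tget T i g))⁻¹) ∈ H

/-- The flag of a rotation says that its value is the stored pair. -/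
def RotOk (φ : ℕ → W) (R : PTree) (a b : W) (V : ℕ) : Prop :=
  ∀ k < 288, rotVal V k % 2 = 1 → ∃ l : List ℕ, (∀ g ∈ l, g < 12) ∧ l.length % 2 = 0 ∧
    R.lookup (fun n _ => n) k = Cert.code l ∧ (l.map φ).prod = val a b
      ((((rotVal V k / 2) % 16 : ℕ) : ℤ) - 8, (((rotVal V k / 32) % 16 : ℕ) : ℤ) - 8)

variable {φ : ℕ → W} {χ : W →* ℤˣ} {a b : W} {H : Subgroup W} {inH : ℕ → Bool}
variable {T P R L : PTree} {V0 V1 : ℕ}

theorem sign_list (S : Setting φ χ a b H inH) :
    ∀ l : List ℕ, (∀ g ∈ l, g < 12) → χ (l.map φ).prod = (-1) ^ l.length := by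
  intro l
  induction l with
  | nil => simp
  | cons g l ih =>
    intro hl
    rw [List.map_cons, List.prod_cons, map_mul, S.sign g (hl g List.mem_cons_self),
      ih fun x hx => hl x (List.mem_cons_of_mem _ hx), List.length_cons, pow_succ']

theorem dep_sound (S : Setting φ χ a b H inH)
    (hL : allLeaves (leafOk T P R L inH V0 V1) L = true) :
    ∀ i, hasRow L i = true → χ (Cert.rep φ P i) = (-1) ^ ldep (leaf L i) := by
  intro i
  induction i using Nat.strong_induction_on with
  | _ i ih =>
    intro hi
    rw [hasRow, Nat.beq_eq] at hi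
    have h := lookup_mem hL i
    simp only [leafOk, force_eq, hi, Bool.and_eq_true] at h
    rcases Nat.eq_zero_or_pos i with rfl | hpos
    · have h0 : ldep (leaf L 0) = 0 := Nat.eq_of_beq_eq_true h.1
      rw [Cert.rep_zero, map_one, h0, pow_zero]
    · have h1 := h.1
      rw [show Nat.beq i 0 = false from Bool.eq_false_iff.2 fun e => by
        rw [Nat.beq_eq] at e; omega] at h1
      simp only [Bool.and_eq_true, Nat.blt_eq, Nat.beq_eq, Nat.add_eq] at h1
      obtain ⟨⟨⟨hu, hg⟩, hf⟩, hd⟩ := h1
      change Cert.parent P i / 16 < i at hu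
      change Cert.parent P i % 16 < 12 at hg
      rw [Cert.rep, if_pos ⟨hpos, hu⟩, map_mul, ih _ hu (by rw [hasRow, Nat.beq_eq]; exact hf),
        S.sign _ hg]
      change ldep (leaf L (Cert.parent P i / 16)) + ldep (leaf L i) = 1 at hd
      rcases Nat.eq_zero_or_pos (ldep (leaf L i)) with e | e
      · rw [e, show ldep (leaf L (Cert.parent P i / 16)) = 1 by omega]
        decide
      · rw [show ldep (leaf L i) = 1 by omega, show ldep (leaf L (Cert.parent P i / 16)) = 0 by omega]
        decide

theorem lwalk_sound (S : Setting φ χ a b H inH)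
    (hD : ∀ i, hasRow L i = true → χ (Cert.rep φ P i) = (-1) ^ ldep (leaf L i))
    {st d : ℕ} (hE : ∀ c g, g < 12 → hasEdge L st c g = true → Cert.jget T c g / 320 < d →
      EdgeV φ P T L H a b st c g) {t dt : ℕ} (hdt : χ (Cert.rep φ P t) = (-1) ^ dt)
    {cont : ℕ → ℕ → ℕ → ℕ → Bool} :
    ∀ (fuel : ℕ) (l pre : List ℕ) (c U1 U2 : ℕ), (∀ g ∈ l, g < 12) → (∀ g ∈ pre, g < 12) →
      (val a b ((U1 : ℤ) - 8 * pre.length, (U2 : ℤ) - 8 * pre.length))⁻¹ *
        (Cert.rep φ P t * (pre.map φ).prod * (Cert.rep φ P c)⁻¹) ∈ H →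
      lwalk T L st d dt fuel (Cert.code l) c U1 U2 pre.length cont = true →
      ∃ c' V1 V2, cont c' V1 V2 (pre.length + l.length) = true ∧
        (val a b ((V1 : ℤ) - 8 * (pre.length + l.length : ℕ), (V2 : ℤ) - 8 * (pre.length + l.length : ℕ)))⁻¹ *
          (Cert.rep φ P t * ((pre ++ l).map φ).prod * (Cert.rep φ P c')⁻¹) ∈ H := by
  intro fuel
  induction fuel with
  | zero =>
    intro l pre c U1 U2 _ _ hm hw
    cases l with
    | nil =>
      change (Nat.beq 0 0 && cont c U1 U2 pre.length) = true at hw
      rw [Bool.and_eq_true] at hw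
      exact ⟨c, U1, U2, hw.2, by simpa using hm⟩
    | cons g l =>
      change (Nat.beq (Cert.code (g :: l)) 0 && _) = true at hw
      simp [Cert.code] at hw
  | succ fuel ih =>
    intro l pre c U1 U2 hl hpre hm hw
    cases l with
    | nil =>
      have hw' : cont c U1 U2 pre.length = true := hw
      exact ⟨c, U1, U2, hw', by simpa using hm⟩
    | cons g l =>
      have hg := hl g List.mem_cons_self
      have hne : Nat.beq (Cert.code (g :: l)) 0 = false := by
        rw [← Bool.not_eq_true, Nat.beq_eq, Cert.code]; omega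
      change Bool.rec _ _ (Nat.beq (Cert.code (g :: l)) 0) = true at hw
      rw [hne] at hw
      have e1 : Nat.sub (Nat.mod (Cert.code (g :: l)) 16) 1 = g := by
        show (Cert.code (g :: l)) % 16 - 1 = g
        rw [Cert.code]; omega
      have e2 : Nat.div (Cert.code (g :: l)) 16 = Cert.code l := by
        show Cert.code (g :: l) / 16 = Cert.code l
        rw [Cert.code]; omega
      simp only [force_eq, e1, e2, Bool.and_eq_true, Nat.add_eq, Nat.beq_eq, Nat.blt_eq] at hw
      obtain ⟨⟨⟨hrow, hflag⟩, hdepth⟩, hrest⟩ := hw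
      have hrow' : hasRow L c = true := by rw [hasRow, Nat.beq_eq]; exact hrow
      have h1 := hE c g hg (by rw [hasEdge, hrow', hflag]; rfl) hdepth
      -- parity of the prefix
      set p := dt + ldep (leaf L c) + pre.length with hp
      set y := (val a b ((U1 : ℤ) - 8 * pre.length, (U2 : ℤ) - 8 * pre.length))⁻¹ *
        (Cert.rep φ P t * (pre.map φ).prod * (Cert.rep φ P c)⁻¹) with hy
      have hχ : χ y = (-1) ^ p := by
        rw [hy, map_mul, map_inv, S.mod.sign_val, inv_one, one_mul, map_mul, map_mul, map_inv, hdt,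
          sign_list S pre hpre, hD c hrow', Int.units_inv_eq_self, hp, pow_add, pow_add]
        ac_rfl
      have h2 := H.mul_mem hm h1
      rw [EdgeV] at h1
      have hs := sel_cast p (ex1 st (leaf L c) g) (ex2 st (leaf L c) g)
      refine (fun ⟨c', V1', V2', hc, hmem⟩ => ⟨c', V1', V2', by simpa [add_assoc, add_comm 1] using hc, by
        simpa [add_assoc, add_comm 1] using hmem⟩)
        (ih l (pre ++ [g]) (Cert.tget T c g) (U1 + sel p (ex1 st (leaf L c) g) (ex2 st (leaf L c) g))
          (U2 + sel p (ex2 st (leaf L c) g) (ex1 st (leaf L c) g))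
          (fun x hx => hl x (List.mem_cons_of_mem _ hx))
          (fun x hx => (List.mem_append.1 hx).elim (hpre x) fun h => by
            rw [List.mem_singleton.1 h]; exact hg) ?_ ?_)
      · have hv : ((((U1 + sel p (ex1 st (leaf L c) g) (ex2 st (leaf L c) g) : ℕ) : ℤ) - 8 * ((pre ++ [g]).length : ℕ)),
            (((U2 + sel p (ex2 st (leaf L c) g) (ex1 st (leaf L c) g) : ℕ) : ℤ) - 8 * ((pre ++ [g]).length : ℕ))) =
            (((U1 : ℤ) - 8 * pre.length, (U2 : ℤ) - 8 * pre.length) : ℤ × ℤ) +
              turn p (exps st (leaf L c) g) := by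
          refine Prod.ext ?_ ?_ <;>
            simp only [Prod.fst_add, Prod.snd_add, exps, ← hs.1, ← hs.2, List.length_append,
              List.length_singleton, Nat.cast_add, Nat.cast_one] <;> ring
        rw [hv, S.mod.val_add, mul_inv_rev]
        have hpass := S.mod.pass hχ (-exps st (leaf L c) g)
        rw [turn_neg, S.mod.val_neg, S.mod.val_neg] at hpass
        rw [← mul_assoc, hpass] at h2
        convert h2 using 1
        rw [hy]
        simp only [List.map_append, List.map_cons, List.map_nil, List.prod_append, List.prod_cons,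
          List.prod_nil, mul_one]
        group
      · rw [List.length_append, List.length_singleton]
        simp only [lwalk, force_eq, Nat.add_eq]
        exact hrest

theorem edges_sound (S : Setting φ χ a b H inH)
    (hL : allLeaves (leafOk T P R L inH V0 V1) L = true) (st : ℕ) (V : ℕ)
    (hV : st = 0 ∧ V = V0 ∨ st = 1 ∧ V = V1) (hR : RotOk φ R a b V) :
    ∀ i g, g < 12 → hasEdge L st i g = true → EdgeV φ P T L H a b st i g := by
  have hD := dep_sound S hL
  suffices h : ∀ m, ∀ i g, g < 12 → hasEdge L st i g = true →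
      Cert.jget T i g / 320 * 524288 + i = m → EdgeV φ P T L H a b st i g from
    fun i g hg he => h _ i g hg he rfl
  intro m
  induction m using Nat.strong_induction_on with
  | _ m ih =>
    intro i g hg he hm
    simp only [hasEdge, Bool.and_eq_true] at he
    obtain ⟨hrow, hflag⟩ := he
    have hdi := hD i hrow
    have hpt : lpt (leaf L i) = i := by rw [hasRow, Nat.beq_eq] at hrow; exact hrow
    have hi : i < 524288 := by rw [← hpt]; exact Nat.mod_lt _ (by omega)
    have h := lookup_mem hL i
    simp only [leafOk, force_eq, Bool.and_eq_true] at h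
    have h12 := allBelow_iff.1 h.2 g hg
    rw [Bool.and_eq_true] at h12
    have hok : edgeOk T P R L inH V st (leaf L i) g = true := by
      rcases hV with ⟨rfl, rfl⟩ | ⟨rfl, rfl⟩
      · have := h12.1; rw [hflag] at this; exact this
      · have := h12.2; rw [hflag] at this; exact this
    simp only [edgeOk, force_eq, hpt, Bool.or_eq_true, Bool.and_eq_true, Nat.blt_eq, Nat.beq_eq,
      Nat.ble_eq] at hok
    simp only [show ∀ c, Cert.ent (Cert.row T c) g = Cert.tget T c g from fun _ => rfl,
      show ∀ c, Cert.jent (Cert.row T c) g = Cert.jget T c g from fun _ => rfl,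
      show ∀ x y, Nat.div x y = x / y from fun _ _ => rfl,
      show ∀ x y, Nat.mod x y = x % y from fun _ _ => rfl, Nat.add_eq, Nat.mul_eq, Nat.sub_eq] at hok
    rw [EdgeV]
    set t := Cert.tget T i g
    set u := ex1 st (leaf L i) g with hu
    set v := ex2 st (leaf L i) g with hv
    rcases hok with ((h0 | h1) | h2) | h3
    · obtain ⟨⟨⟨-, e1⟩, e2⟩, htree⟩ := h0
      have hs : exps st (leaf L i) g = 0 := by
        simp only [exps, ← hu, ← hv, e1, e2]; rfl
      rw [hs, Module.val_zero, inv_one, one_mul]
      rcases htree with ⟨hlt, hp⟩ | ⟨hlt, hp⟩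
      · change Cert.parent P t = 16 * i + g at hp
        rw [show Cert.rep φ P t = Cert.rep φ P i * φ g by
            conv_lhs => rw [Cert.rep, if_pos ⟨show 0 < t by omega,
              show Cert.parent P t / 16 < t by omega⟩]
            rw [hp, show (16 * i + g) / 16 = i by omega, show (16 * i + g) % 16 = g by omega],
          mul_inv_cancel]
        exact H.one_mem
      · change Cert.parent P i = 16 * t + g at hp
        rw [show Cert.rep φ P i = Cert.rep φ P t * φ g by
            conv_lhs => rw [Cert.rep, if_pos ⟨show 0 < i by omega,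
              show Cert.parent P i / 16 < i by omega⟩]
            rw [hp, show (16 * t + g) / 16 = t by omega, show (16 * t + g) % 16 = g by omega],
          mul_assoc (Cert.rep φ P t), S.invol g hg, mul_one, mul_inv_cancel]
        exact H.one_mem
    · obtain ⟨⟨⟨⟨⟨-, e0⟩, e0'⟩, hin⟩, e1⟩, e2⟩ := h1
      have hs : exps st (leaf L i) g = 0 := by
        simp only [exps, ← hu, ← hv, e1, e2]; rfl
      rw [hs, Module.val_zero, inv_one, one_mul, e0, show t = 0 from e0', Cert.rep_zero, one_mul,
        inv_one, mul_one]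
      exact S.mem g hg hin
    · obtain ⟨⟨-, hlt⟩, ⟨⟨⟨hback, hdep⟩, hf⟩, hfl⟩, e1, e2⟩ := h2
      change t < i at hlt
      change Cert.tget T t g = i at hback
      have hrt : hasRow L t = true := by rw [hasRow, Nat.beq_eq]; exact hf
      have hmlt : Cert.jget T t g / 320 * 524288 + t < m := by
        change Cert.jget T t g / 320 ≤ Cert.jget T i g / 320 at hdep
        have := Nat.mul_le_mul_right 524288 hdep
        omega
      have h4 := ih _ hmlt t g hg (by simp only [hasEdge, Bool.and_eq_true]; exact ⟨hrt, hfl⟩) rfl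
      rw [EdgeV, hback] at h4
      set s' := exps st (leaf L t) g with hs'
      set p := ldep (leaf L i) + ldep (leaf L t) + 1 with hp
      have hs : exps st (leaf L i) g = -turn p s' := by
        have hc := sel_cast p (ex1 st (leaf L t) g) (ex2 st (leaf L t) g)
        refine Prod.ext ?_ ?_
        · rw [Prod.fst_neg, hs']; simp only [exps, ← hc.1, ← hu]
          change u + sel p _ _ = 16 at e1
          omega
        · rw [Prod.snd_neg, hs']; simp only [exps, ← hc.2, ← hv]
          change v + sel p _ _ = 16 at e2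
          omega
      have h5 := H.inv_mem h4
      have hχ : χ (Cert.rep φ P i * φ g * (Cert.rep φ P t)⁻¹) = (-1) ^ p := by
        rw [map_mul, map_mul, map_inv, hdi, hD t hrt, S.sign g hg, Int.units_inv_eq_self,
          hp, pow_add, pow_add, pow_one]
        ac_rfl
      convert h5 using 1
      rw [mul_inv_rev, inv_inv, mul_inv_rev, mul_inv_rev, inv_inv,
        inv_eq_of_mul_eq_one_right (S.invol g hg), hs, S.mod.val_neg, inv_inv, ← mul_assoc,
        ← mul_assoc]
      rw [mul_assoc (val a b (turn p s')), mul_assoc (val a b (turn p s')), ← S.mod.pass hχ]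
      group
    · obtain ⟨⟨hk, hk'⟩, hv1, hw, hf, hwalk⟩ := h3
      change 3 ≤ Cert.jget T i g % 320 at hk
      change Cert.jget T i g % 320 < 291 at hk'
      set k := Cert.jget T i g % 320 - 3 with hkdef
      obtain ⟨l, hl, hlen, hcode, hprod⟩ := hR k (by omega) hv1
      change (R.lookup (fun n _ => n) k) % 16 = g + 1 at hw
      rw [hcode] at hw
      change lwalk T L st (Cert.jget T i g / 320) (ldep (leaf L t)) 256
        (R.lookup (fun n _ => n) k / 16) t 0 0 0 _ = true at hwalk
      rw [hcode] at hwalk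
      cases l with
      | nil => rw [Cert.code] at hw; omega
      | cons x l =>
        have hx : x = g := by
          have := hl x List.mem_cons_self
          rw [Cert.code] at hw; omega
        subst hx
        rw [show Cert.code (x :: l) / 16 = Cert.code l by
          rw [Cert.code]; have := hl x List.mem_cons_self; omega] at hwalk
        have hrt : hasRow L t = true := by rw [hasRow, Nat.beq_eq]; exact hf
        obtain ⟨c, V1', V2', hc, hmem⟩ := lwalk_sound S hD (fun c y hy he hd => ih _ (by
            have := Nat.mul_le_mul_right 524288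
              (show Cert.jget T c y / 320 + 1 ≤ Cert.jget T i x / 320 from hd)
            have hc' : c < 524288 := by
              simp only [hasEdge, Bool.and_eq_true, hasRow, Nat.beq_eq] at he
              rw [← he.1]; exact Nat.mod_lt _ (by omega)
            omega) c y hy he rfl)
          (hD t hrt) 256 l [] t 0 0 (fun y hy => hl y (List.mem_cons_of_mem _ hy)) (by simp)
          (by simp [val]) hwalk
        simp only [Nat.beq_eq, Bool.and_eq_true, List.length_nil, zero_add, List.nil_append,
          Nat.add_eq, Nat.mul_eq] at hc hmem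
        obtain ⟨hci, e1, e2⟩ := hc
        rw [hci] at hmem
        set X : ℤ × ℤ := ((V1' : ℤ) - 8 * (l.length : ℕ), (V2' : ℤ) - 8 * (l.length : ℕ)) with hX
        set w : ℤ × ℤ := ((((rotVal V k / 2) % 16 : ℕ) : ℤ) - 8, (((rotVal V k / 32) % 16 : ℕ) : ℤ) - 8)
          with hwdef
        set p := ldep (leaf L i) + ldep (leaf L t) + 1 with hp
        have hs : exps st (leaf L i) x = turn (ldep (leaf L i)) w + -turn p X := by
          have hc1 := sel_cast (ldep (leaf L i)) ((rotVal V k / 2) % 16) ((rotVal V k / 32) % 16)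
          have hpar : ∀ q r : ℕ, turn p ((q : ℤ) - 8 * (l.length : ℕ), (r : ℤ) - 8 * (l.length : ℕ)) =
              ((sel p q r : ℤ) - 8 * (l.length : ℕ), (sel p r q : ℤ) - 8 * (l.length : ℕ)) := by
            intro q r; simp only [turn, sel_eq]; split_ifs <;> rfl
          rw [hX, hpar]
          refine Prod.ext ?_ ?_
          · simp only [Prod.fst_add, Prod.fst_neg, hwdef, ← hc1.1, exps, ← hu]
            change u + sel p V1' V2' = sel _ ((Nat.shiftRight (rotVal V k) 1) % 16)
              ((Nat.shiftRight (rotVal V k) 5) % 16) + _ at e1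
            rw [show Nat.shiftRight (rotVal V k) 1 = rotVal V k / 2 from
                Nat.shiftRight_eq_div_pow _ 1, show Nat.shiftRight (rotVal V k) 5 = rotVal V k / 32 from
                Nat.shiftRight_eq_div_pow _ 5] at e1
            omega
          · simp only [Prod.snd_add, Prod.snd_neg, hwdef, ← hc1.2, exps, ← hv]
            change v + sel p V2' V1' = sel _ ((Nat.shiftRight (rotVal V k) 5) % 16)
              ((Nat.shiftRight (rotVal V k) 1) % 16) + _ at e2
            rw [show Nat.shiftRight (rotVal V k) 1 = rotVal V k / 2 from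
                Nat.shiftRight_eq_div_pow _ 1, show Nat.shiftRight (rotVal V k) 5 = rotVal V k / 32 from
                Nat.shiftRight_eq_div_pow _ 5] at e2
            omega
        rw [List.map_cons, List.prod_cons] at hprod
        rw [eq_inv_mul_of_mul_eq hprod] at hmem
        have h5 := H.inv_mem hmem
        have hχ : χ (Cert.rep φ P i * φ x * (Cert.rep φ P t)⁻¹) = (-1) ^ p := by
          rw [map_mul, map_mul, map_inv, hdi, hD t hrt, S.sign x hg, Int.units_inv_eq_self,
            hp, pow_add, pow_add, pow_one]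
          ac_rfl
        convert h5 using 1
        rw [hs, S.mod.val_add, S.mod.val_neg, mul_inv_rev, inv_inv]
        simp only [mul_inv_rev, inv_inv]
        have h6 := S.mod.pass hdi (-w)
        rw [turn_neg, S.mod.val_neg, S.mod.val_neg] at h6
        have h7 := S.mod.pass hχ X
        rw [show val a b (turn p X) * (val a b (turn (ldep (leaf L i)) w))⁻¹ =
            (val a b (turn (ldep (leaf L i)) w))⁻¹ * val a b (turn p X) by
          rw [← S.mod.val_neg, ← S.mod.val_add, add_comm, S.mod.val_add]]
        rw [mul_assoc, ← h7]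
        simp only [← mul_assoc]
        rw [← h6]

/-- A checked loop gives a value in the subgroup. -/
theorem loop_sound (S : Setting φ χ a b H inH)
    (hL : allLeaves (leafOk T P R L inH V0 V1) L = true) (st : ℕ) (V : ℕ)
    (hV : st = 0 ∧ V = V0 ∨ st = 1 ∧ V = V1) (hR : RotOk φ R a b V)
    {l : List ℕ} {i v1 v2 D1 D2 : ℕ}
    (hl : ∀ g ∈ l, g < 12) (hprod : (l.map φ).prod = val a b ((v1 : ℤ) - 8, (v2 : ℤ) - 8))
    (h : loopOk T L st (Cert.code l) i v1 v2 D1 D2 = true) :
    val a b ((D1 : ℤ) - 16, (D2 : ℤ) - 16) ∈ H := by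
  simp only [loopOk, force_eq, Bool.and_eq_true, Nat.beq_eq] at h
  obtain ⟨hrow, hw⟩ := h
  have hdi := dep_sound S hL i (by rw [hasRow, Nat.beq_eq]; exact hrow)
  obtain ⟨c, V1', V2', hc, hmem⟩ := lwalk_sound S (dep_sound S hL)
    (fun c y hy he _ => edges_sound S hL st V hV hR c y hy he) hdi 256 l [] i 0 0 hl (by simp)
    (by simp [val]) hw
  simp only [Nat.beq_eq, Bool.and_eq_true, List.length_nil, zero_add, List.nil_append, Nat.add_eq,
    Nat.mul_eq] at hc hmem
  obtain ⟨⟨⟨hci, e1⟩, e2⟩, -⟩ := hc
  subst hci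
  rw [hprod, S.mod.pass hdi, mul_inv_cancel_right, ← S.mod.val_neg, ← S.mod.val_add] at hmem
  have hc1 := sel_cast (ldep (leaf L c)) v1 v2
  convert hmem using 2
  refine Prod.ext ?_ ?_
  · simp only [Prod.fst_add, Prod.fst_neg, ← hc1.1]
    omega
  · simp only [Prod.snd_add, Prod.snd_neg, ← hc1.2]
    omega

end Cfsg.Agent.Lib.Fi24Mult27
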