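import Cfsg.Agent.Lib.Fi24Mult27.Group

/-!
Normalised lifts of the generators of the presented Fi24 into a central extension of its commutator subgroup:
the copy of Fi23 lifts, and the product of the two remaining generators has a lift of order three inverted by
all generators that invert it in the quotient.
-/

set_option autoImplicit false
set_option maxRecDepth 20000

namespace Cfsg.Agent.Lib.Fi24Mult27

open Cfsg.Agent.Lib
open Cfsg.Agent.Lib.Fi24 (xg)
open scoped commutatorElement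

/-- A finite perfect group with trivial multiplier lifts to central extensions. -/
theorem exists_section {Γ G' Q : Type} [Group Γ] [Finite Γ] [Group G'] [Group Q] [Finite Q]
    (hQ : commutator Q = ⊤) (hm : Cfsg.HasCyclicSchurMultiplier Q 1) {σ : Γ →* G'}
    (hsur : Function.Surjective σ) (hc : σ.ker ≤ Subgroup.center Γ) (e : Q →* G') :
    ∃ s : Q →* Γ, ∀ y, σ (s y) = e y := by
  let P : Subgroup (Γ × Q) := MonoidHom.eqLocus (σ.comp (MonoidHom.fst Γ Q)) (e.comp (MonoidHom.snd Γ Q))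
  let τ : P →* Q := (MonoidHom.snd Γ Q).comp P.subtype
  have hτ : Function.Surjective τ := fun y => by
    obtain ⟨u, hu⟩ := hsur (e y)
    exact ⟨⟨(u, y), hu⟩, rfl⟩
  have hcen : ∀ z : P, τ z = 1 → ∀ w : P, w * z = z * w := by
    intro z hz w
    have h1 : z.1.2 = 1 := hz
    have h2 : σ z.1.1 = e z.1.2 := z.2
    rw [h1, map_one] at h2
    apply Subtype.ext
    refine Prod.ext (Subgroup.mem_center_iff.1 (hc h2) w.1.1) ?_
    show w.1.2 * z.1.2 = z.1.2 * w.1.2
    rw [h1, mul_one, one_mul]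
  let D := commutator P
  let τD : D →* Q := τ.comp D.subtype
  have hmapD : D.map τ = ⊤ := by
    show (commutator P).map τ = ⊤
    rw [commutator_def, Subgroup.map_commutator, Subgroup.map_top_of_surjective τ hτ, ← commutator_def, hQ]
  have hτD : Function.Surjective τD := fun y => by
    obtain ⟨w, hw, rfl⟩ := hmapD.symm.le (Subgroup.mem_top y)
    exact ⟨⟨w, hw⟩, rfl⟩
  have hdec : ∀ u : P, ∃ d ∈ D, ∃ z, τ z = 1 ∧ u = d * z := fun u => by
    obtain ⟨d, hd⟩ := hτD (τ u)
    exact ⟨d.1, d.2, d.1⁻¹ * u, by rw [map_mul, map_inv, show τ d.1 = τ u from hd, inv_mul_cancel],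
      (mul_inv_cancel_left _ _).symm⟩
  have hperfect : commutator D = ⊤ := by
    rw [eq_top_iff]
    rintro ⟨x, hx⟩ -
    have hx' : x ∈ (commutator D).map D.subtype := by
      refine (show commutator P ≤ _ from ?_) hx
      rw [commutator_def, Subgroup.commutator_le]
      intro u _ v _
      obtain ⟨d, hd, z, hz, rfl⟩ := hdec u
      obtain ⟨d', hd', z', hz', rfl⟩ := hdec v
      refine ⟨⁅(⟨d, hd⟩ : D), ⟨d', hd'⟩⁆,
        Subgroup.commutator_mem_commutator (Subgroup.mem_top _) (Subgroup.mem_top _), ?_⟩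
      show ⁅d, d'⁆ = ⁅d * z, d' * z'⁆
      have cz := hcen z hz
      have cz' := hcen z' hz'
      simp only [commutatorElement_def]
      symm
      calc d * z * (d' * z') * (d * z)⁻¹ * (d' * z')⁻¹
          = d * (z * d') * (z' * z⁻¹) * d⁻¹ * z'⁻¹ * d'⁻¹ := by group
        _ = d * d' * (z * z⁻¹) * (z' * d⁻¹) * z'⁻¹ * d'⁻¹ := by rw [← cz d', ← cz' z⁻¹]; group
        _ = _ := by rw [← cz' d⁻¹]; group
    obtain ⟨w, hw, he⟩ := hx'
    have : w = ⟨x, hx⟩ := Subtype.ext he
    exact this ▸ hw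
  have hstem : Cfsg.IsStemExtension τD := by
    refine ⟨hτD, fun z hz => ?_, by rw [hperfect]; exact le_top⟩
    rw [Subgroup.mem_center_iff]
    exact fun w => Subtype.ext (hcen z.1 hz w.1)
  obtain ⟨π, hπ⟩ := hm.2 D τD hstem
  have hinj : Function.Injective τD := by
    rw [← MonoidHom.ker_eq_bot_iff, eq_bot_iff]
    intro z hz
    obtain ⟨x, hx⟩ := hπ ⟨z, hz⟩
    rw [show x = 1 from Subsingleton.elim _ _, map_one] at hx
    exact Subgroup.mem_bot.2 (congrArg Subtype.val hx).symm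
  let i : Q →* D := (MulEquiv.ofBijective τD ⟨hinj, hτD⟩).symm.toMonoidHom
  refine ⟨((MonoidHom.fst Γ Q).comp P.subtype).comp (D.subtype.comp i), fun y => ?_⟩
  have h2 : σ (i y).1.1.1 = e (i y).1.1.2 := (i y).1.2
  rw [show (i y).1.1.2 = y from (MulEquiv.ofBijective τD ⟨hinj, hτD⟩).apply_symm_apply y] at h2
  exact h2

/-- The commutator subgroup. -/
abbrev G' : Type := Cfsg.Spor.Fi24'

/-- The letter `l` to the power of a natural number. -/
def lp (n : ℕ) : G := xg 0 ^ n

theorem lp_even {n : ℕ} (h : n % 2 = 0) : lp n = 1 := by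
  obtain ⟨k, rfl⟩ := Nat.dvd_of_mod_eq_zero h
  rw [lp, pow_mul, pow_two, Fi24.xg_sq (by omega), one_pow]

theorem pair_rel {g k : ℕ} (hg : g < 12) (hk : k < 12) (hne : g ≠ k) :
    if Fi24.joined g k then xg g * xg k * xg g = xg k * xg g * xg k else xg g * xg k = xg k * xg g := by
  have h := Fi24.xg_pow hg hk
  rw [if_neg hne] at h
  split_ifs at h ⊢
  · rw [pow_succ, pow_two] at h
    have h2 := mul_eq_one_iff_eq_inv.1 h
    rw [mul_inv_rev, Fi24.xg_inv hg, Fi24.xg_inv hk] at h2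
    calc xg g * xg k * xg g = xg g * xg k * (xg g * xg k) * xg k := by
          rw [mul_assoc (xg g * xg k) (xg g * xg k), mul_assoc (xg g) (xg k) (xg k), Fi24.xg_sq hk, mul_one]
      _ = _ := by rw [h2]
  · rw [pow_two] at h
    have h2 := mul_eq_one_iff_eq_inv.1 h
    rwa [mul_inv_rev, Fi24.xg_inv hg, Fi24.xg_inv hk] at h2

/-- Normalised lifts. -/
structure Lift {Γ : Type} [Group Γ] (σ : Γ →* G') where
  /-- The section on the point stabiliser. -/
  s : Fi24.H →* Γ
  s_even : ∀ h : Fi24.H, sgn h.1 = 1 → ((σ (s h)).1 : G) = h.1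
  s_odd : ∀ h : Fi24.H, sgn h.1 = -1 → ((σ (s h)).1 : G) = h.1 * xg 0
  s_l : s ⟨xg 0, xg_mem (by omega) (by omega)⟩ = 1
  /-- The lift of `l k`. -/
  Y : Γ
  Y_lift : ((σ Y).1 : G) = xg 0 * xg 1
  Y_cube : Y ^ 3 = 1
  Y_inv : ∀ g (hg : g < 12) (h3 : 3 ≤ g),
    s ⟨xg g, xg_mem hg (by omega)⟩ * Y * s ⟨xg g, xg_mem hg (by omega)⟩ = Y⁻¹

variable {Γ : Type} [Group Γ] [Finite Γ] {σ : Γ →* G'}

/-- Normalised lifts exist. -/
theorem exists_lift (hsur : Function.Surjective σ) (hc : σ.ker ≤ Subgroup.center Γ) : Nonempty (Lift σ) := by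
  obtain ⟨σ23, e, he, hl, hσe⟩ := exists_even_section
  let e' : Cfsg.Spor.Fi23 →* G' := e.codRestrict (commutator G) fun y => mem_derived.2 (he y)
  have := finite_Fi23
  obtain ⟨sect, hsect⟩ := exists_section perfect_Fi23 Cfsg.Agent.S2054.result hsur hc e'
  let s : Fi24.H →* Γ := sect.comp σ23
  have hs : ∀ h : Fi24.H, ((σ (s h)).1 : G) = e (σ23 h) := fun h => congrArg Subtype.val (hsect _)
  let T : ℕ → Γ := fun g => if hg : g < 12 ∧ g ≠ 1 then s ⟨xg g, xg_mem hg.1 hg.2⟩ else 1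
  have hTσ : ∀ g, g < 12 → g ≠ 1 → ((σ (T g)).1 : G) = xg g * xg 0 := by
    intro g hg hg1
    simp only [T, dif_pos (show g < 12 ∧ g ≠ 1 from ⟨hg, hg1⟩), hs]
    exact (hσe _).2 (sgn_xg g)
  have hT2 : ∀ g, T g * T g = 1 := by
    intro g
    simp only [T]
    split_ifs with hg
    · rw [← map_mul, show (⟨xg g, xg_mem hg.1 hg.2⟩ * ⟨xg g, xg_mem hg.1 hg.2⟩ : Fi24.H) = 1 from
        Subtype.ext (Fi24.xg_sq hg.1), map_one]
    · exact one_mul 1
  have hTbr : ∀ g k, g < 12 → k < 12 → 3 ≤ g → 3 ≤ k → g ≠ k →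
      if Fi24.joined g k then T g * T k * T g = T k * T g * T k else T g * T k = T k * T g := by
    intro g k hg hk h3 h3' hne
    have h := pair_rel hg hk hne
    simp only [T, dif_pos (show g < 12 ∧ g ≠ 1 by omega), dif_pos (show k < 12 ∧ k ≠ 1 by omega)]
    split_ifs at h ⊢ <;> simp only [← map_mul] <;> exact congrArg s (Subtype.ext h)
  -- a lift of `l k`
  have hy : xg 0 * xg 1 ∈ commutator G := mem_derived.2 (by rw [map_mul, sgn_xg, sgn_xg]; decide)
  obtain ⟨Y, hY⟩ := hsur ⟨xg 0 * xg 1, hy⟩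
  have hcomm : ∀ z, σ z = 1 → ∀ w, w * z = z * w := fun z hz w => Subgroup.mem_center_iff.1 (hc hz) w
  have hconj : ∀ g, g < 12 → 3 ≤ g → ∀ w : Γ, σ w = σ Y → σ (T g * w * T g * w) = 1 := by
    intro g hg h3 w hw
    apply Subtype.ext
    rw [map_mul, map_mul, map_mul, hw, hY]
    simp only [Subgroup.coe_mul, Subgroup.coe_one, hTσ g hg (by omega)]
    have hk := pair_rel hg (show (1 : ℕ) < 12 by omega) (by omega)
    rw [(show ∀ g < 12, 3 ≤ g → Fi24.joined g 1 = false by decide +kernel) g hg h3,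
      if_neg Bool.false_ne_true] at hk
    have h00 : xg 0 * xg 0 = 1 := Fi24.xg_sq (by omega)
    calc xg g * xg 0 * (xg 0 * xg 1) * (xg g * xg 0) * (xg 0 * xg 1)
        = xg g * (xg 0 * xg 0) * xg 1 * xg g * (xg 0 * xg 0) * xg 1 := by simp only [mul_assoc]
      _ = xg g * xg 1 * (xg g * xg 1) := by rw [h00, mul_one, mul_one, mul_assoc]
      _ = 1 := by
        conv_lhs => arg 2; rw [hk]
        rw [mul_assoc (xg g) (xg 1), ← mul_assoc (xg 1) (xg 1), Fi24.xg_sq (by omega), one_mul,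
          Fi24.xg_sq hg]
  let α : ℕ → Γ := fun g => T g * Y * T g * Y
  have hα : ∀ g, g < 12 → 3 ≤ g → σ (α g) = 1 := fun g hg h3 => hconj g hg h3 Y rfl
  have hflip : ∀ g, g < 12 → 3 ≤ g → T g * Y * T g = α g * Y⁻¹ := fun g _ _ => by simp [α]
  have hflip' : ∀ g, g < 12 → 3 ≤ g → T g * Y⁻¹ * T g = (α g)⁻¹ * Y := by
    intro g hg h3
    have hi : (T g)⁻¹ = T g := inv_eq_of_mul_eq_one_right (hT2 g)
    have := congrArg (·⁻¹) (hflip g hg h3)
    simp only [mul_inv_rev, hi, inv_inv] at this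
    rw [← mul_assoc] at this
    rw [this, hcomm _ (by rw [map_inv, hα g hg h3, inv_one]) Y]
  have move : ∀ z, σ z = 1 → ∀ g w, T g * (z * w) * T g = z * (T g * w * T g) := by
    intro z hz g w
    rw [← mul_assoc (T g) z w, hcomm z hz]
    simp only [mul_assoc]
  -- the factor does not depend on the letter
  have hjoin : ∀ g k, g < 12 → k < 12 → 3 ≤ g → 3 ≤ k → g ≠ k → Fi24.joined g k = true →
      (α g * (α k)⁻¹) ^ 3 = 1 := by
    intro g k hg hk h3 h3' hne hj
    have h := hTbr g k hg hk h3 h3' hne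
    rw [if_pos hj] at h
    have e : ∀ a b, a < 12 → b < 12 → 3 ≤ a → 3 ≤ b →
        T a * T b * T a * Y * (T a * T b * T a) = α a * (α b)⁻¹ * α a * Y⁻¹ := by
      intro a b ha hb ha3 hb3
      calc T a * T b * T a * Y * (T a * T b * T a) = T a * (T b * (T a * Y * T a) * T b) * T a := by
            simp only [mul_assoc]
        _ = _ := by
          rw [hflip a ha ha3, move _ (hα a ha ha3), hflip' b hb hb3, ← mul_assoc (α a),
            move _ (by rw [map_mul, map_inv, hα a ha ha3, hα b hb hb3, inv_one, one_mul]), hflip a ha ha3]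
          simp only [mul_assoc]
    have h2 := (e g k hg hk h3 h3').symm.trans ((congrArg (fun x => x * Y * x) h).trans (e k g hk hg h3' h3))
    have h3eq := mul_right_cancel h2
    have cg : Commute (α g) (α k) := hcomm _ (hα k hk h3') _
    rw [pow_succ, pow_two]
    have cgi : (α k)⁻¹ * α g = α g * (α k)⁻¹ := cg.inv_right.eq.symm
    calc α g * (α k)⁻¹ * (α g * (α k)⁻¹) * (α g * (α k)⁻¹)
        = (α g * (α k)⁻¹ * α g) * (α k)⁻¹ * α g * (α k)⁻¹ := by simp only [mul_assoc]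
      _ = (α k * (α g)⁻¹ * α k) * (α k)⁻¹ * α g * (α k)⁻¹ := by rw [h3eq]
      _ = 1 := by group
  have hsep : ∀ g k, g < 12 → k < 12 → 3 ≤ g → 3 ≤ k → g ≠ k → Fi24.joined g k = false →
      (α g * (α k)⁻¹) ^ 2 = 1 := by
    intro g k hg hk h3 h3' hne hj
    have h := hTbr g k hg hk h3 h3' hne
    rw [if_neg (by rw [hj]; exact Bool.false_ne_true)] at h
    have e : ∀ a b, a < 12 → b < 12 → 3 ≤ a → 3 ≤ b →
        T a * T b * Y * (T b * T a) = α b * (α a)⁻¹ * Y := by
      intro a b ha hb ha3 hb3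
      calc T a * T b * Y * (T b * T a) = T a * (T b * Y * T b) * T a := by simp only [mul_assoc]
        _ = _ := by
          rw [hflip b hb hb3, move _ (hα b hb hb3), hflip' a ha ha3]
          exact (mul_assoc _ _ _).symm
    have h' : T k * T g = T g * T k := h.symm
    have h2 : α k * (α g)⁻¹ * Y = α g * (α k)⁻¹ * Y := by
      rw [← e g k hg hk h3 h3', ← e k g hk hg h3' h3, h, h']
    have h3eq := mul_right_cancel h2
    rw [pow_two]
    calc α g * (α k)⁻¹ * (α g * (α k)⁻¹) = α k * (α g)⁻¹ * (α g * (α k)⁻¹) := by rw [h3eq]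
      _ = 1 := by group
  have heq : ∀ g k n, g < 12 → k < 12 → n < 12 → 3 ≤ g → 3 ≤ k → 3 ≤ n →
      Fi24.joined g k = true → Fi24.joined g n = false → Fi24.joined k n = false → g ≠ k → g ≠ n → k ≠ n →
      α g = α k := by
    intro g k n hg hk hn h3 h3' h3n hgk hgn hkn hne hne' hne''
    have e3 := hjoin g k hg hk h3 h3' hne hgk
    have e1 := hsep g n hg hn h3 h3n hne' hgn
    have e2 := hsep k n hk hn h3' h3n hne'' hkn
    have c1 : Commute (α g * (α n)⁻¹) ((α k * (α n)⁻¹)⁻¹) :=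
      hcomm _ (by rw [map_inv, map_mul, map_inv, hα k hk h3', hα n hn h3n, inv_one, one_mul, inv_one]) _
    have e4 : (α g * (α k)⁻¹) ^ 2 = 1 := by
      rw [show α g * (α k)⁻¹ = (α g * (α n)⁻¹) * (α k * (α n)⁻¹)⁻¹ by group, c1.mul_pow, e1, inv_pow, e2,
        inv_one, one_mul]
    rw [pow_succ, e4, one_mul] at e3
    exact mul_inv_eq_one.1 e3
  have hall : ∀ g, g < 12 → 3 ≤ g → α g = α 3 := by
    have e34 := heq 3 4 7 (by omega) (by omega) (by omega) le_rfl (by omega) (by omega) rfl rfl rfl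
      (by omega) (by omega) (by omega)
    have e45 := heq 4 5 8 (by omega) (by omega) (by omega) (by omega) (by omega) (by omega) rfl rfl rfl
      (by omega) (by omega) (by omega)
    have e56 := heq 5 6 9 (by omega) (by omega) (by omega) (by omega) (by omega) (by omega) rfl rfl rfl
      (by omega) (by omega) (by omega)
    have e67 := heq 6 7 3 (by omega) (by omega) (by omega) (by omega) (by omega) (by omega) rfl rfl rfl
      (by omega) (by omega) (by omega)
    have e78 := heq 7 8 3 (by omega) (by omega) (by omega) (by omega) (by omega) (by omega) rfl rfl rfl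
      (by omega) (by omega) (by omega)
    have e89 := heq 8 9 3 (by omega) (by omega) (by omega) (by omega) (by omega) (by omega) rfl rfl rfl
      (by omega) (by omega) (by omega)
    have e510 := heq 5 10 9 (by omega) (by omega) (by omega) (by omega) (by omega) (by omega) rfl rfl rfl
      (by omega) (by omega) (by omega)
    have e1011 := heq 10 11 3 (by omega) (by omega) (by omega) (by omega) (by omega) (by omega) rfl rfl rfl
      (by omega) (by omega) (by omega)
    intro g hg h3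
    interval_cases g <;> simp only [← e1011, ← e510, ← e89, ← e78, ← e67, ← e56, ← e45, ← e34]
  -- normalisation
  have hk3 : (xg 0 * xg 1) ^ 3 = 1 := by
    have h := Fi24.xg_pow (show (0 : ℕ) < 12 by omega) (show (1 : ℕ) < 12 by omega)
    rwa [if_neg (by omega), show Fi24.joined 0 1 = true from rfl, if_pos rfl] at h
  have hY3 : σ (Y ^ 3) = 1 := Subtype.ext (by rw [map_pow, hY]; exact hk3)
  set γ := Y ^ 3 with hγdef
  set a := α 3 with hadef
  have ha : σ a = 1 := hα 3 (by omega) le_rfl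
  have hTi : ∀ g, (T g)⁻¹ = T g := fun g => inv_eq_of_mul_eq_one_right (hT2 g)
  have conjpow : ∀ g (w : Γ) (n : ℕ), T g * w ^ n * T g = (T g * w * T g) ^ n := by
    intro g w n
    have := (conj_pow (i := n) (a := T g) (b := w)).symm
    rwa [hTi] at this
  have hγ2 : γ * γ = a ^ 3 := by
    have e := conjpow 3 Y 3
    rw [hflip 3 (by omega) le_rfl, ← hadef, ← hγdef, hcomm γ hY3, mul_assoc, hT2, mul_one,
      Commute.mul_pow (hcomm a ha Y⁻¹).symm, inv_pow, ← hγdef] at e
    nth_rewrite 1 [e]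
    rw [mul_assoc, inv_mul_cancel, mul_one]
  set ε := γ * a⁻¹ with hεdef
  have hε : σ ε = 1 := by rw [map_mul, map_inv, hY3, ha, inv_one, one_mul]
  have hε2 : ε * ε = a := by
    rw [hεdef, show γ * a⁻¹ * (γ * a⁻¹) = γ * (a⁻¹ * γ) * a⁻¹ by group, hcomm γ hY3 a⁻¹,
      show γ * (γ * a⁻¹) * a⁻¹ = γ * γ * (a⁻¹ * a⁻¹) by group, hγ2]
    group
  set Y1 := Y * ε⁻¹ with hY1
  have hσ1 : σ Y1 = σ Y := by rw [hY1, map_mul, map_inv, hε, inv_one, mul_one]
  have hinv1 : ∀ g, g < 12 → 3 ≤ g → T g * Y1 * T g = Y1⁻¹ := by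
    intro g hg h3
    rw [hY1, hcomm ε⁻¹ (by rw [map_inv, hε, inv_one]) Y, move _ (by rw [map_inv, hε, inv_one]),
      hflip g hg h3, hall g hg h3, ← hε2]
    group
    exact (hcomm ε hε _).symm
  set γ1 := Y1 ^ 3 with hγ1
  have hσγ1 : σ γ1 = 1 := by rw [hγ1, map_pow, hσ1, ← map_pow]; exact hY3
  have hγ12 : γ1 * γ1 = 1 := by
    have e := conjpow 3 Y1 3
    rw [hinv1 3 (by omega) le_rfl, ← hγ1, hcomm γ1 hσγ1, mul_assoc, hT2, mul_one, inv_pow, ← hγ1] at e
    exact mul_eq_one_iff_eq_inv.2 e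
  refine ⟨⟨s, fun h hh => by rw [hs, (hσe h).1 hh], fun h hh => by rw [hs, (hσe h).2 hh], ?_,
    Y1 * γ1, ?_, ?_, ?_⟩⟩
  · show sect (σ23 _) = 1
    rw [hl, map_one]
  · rw [map_mul, hσγ1, mul_one, hσ1, hY]
  · rw [Commute.mul_pow (show Commute Y1 γ1 from hcomm _ hσγ1 _), ← hγ1, pow_succ γ1, pow_two, hγ12,
      one_mul, hγ12]
  · intro g hg h3
    have hTg : T g = s ⟨xg g, xg_mem hg (by omega)⟩ := dif_pos ⟨hg, by omega⟩
    rw [← hTg, hcomm γ1 hσγ1 Y1, move _ hσγ1, hinv1 g hg h3]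
    conv_rhs => rw [mul_inv_rev, inv_eq_of_mul_eq_one_right hγ12]
    exact (hcomm γ1 hσγ1 _).symm

end Cfsg.Agent.Lib.Fi24Mult27
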