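import Cfsg.Agent.Lib.Fi24Mult27.Low.L0
import Cfsg.Agent.Lib.Fi24Mult27.Low.L1
import Cfsg.Agent.Lib.Fi24Mult27.Low.L2
import Cfsg.Agent.Lib.Fi24Mult27.Low.L3
import Cfsg.Agent.Lib.Fi24Mult27.Low.L4
import Cfsg.Agent.Lib.Fi24Mult27.Low.L5
import Cfsg.Agent.Lib.Fi24Mult27.Low.L6
import Cfsg.Agent.Lib.Fi24Mult27.Low.L7
import Cfsg.Agent.Lib.Fi24Mult27.Low.L8
import Cfsg.Agent.Lib.Fi24Mult27.Low.L9
import Cfsg.Agent.Lib.Fi24Mult27.Low.L10
import Cfsg.Agent.Lib.Fi24Mult27.Low.L11
import Cfsg.Agent.Lib.Fi24Mult27.Low.L12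
import Cfsg.Agent.Lib.Fi24Mult27.Low.L13
import Cfsg.Agent.Lib.Fi24Mult27.Low.L14
import Cfsg.Agent.Lib.Fi24Mult27.Low.L15
import Cfsg.Agent.Lib.Fi24Mult27.Low.L16
import Cfsg.Agent.Lib.Fi24Mult27.Low.L17
import Cfsg.Agent.Lib.Fi24Mult27.Low.L18
import Cfsg.Agent.Lib.Fi24Mult27.Low.L19
import Cfsg.Agent.Lib.Fi24Mult27.Low.L20
import Cfsg.Agent.Lib.Fi24Mult27.Low.L21
import Cfsg.Agent.Lib.Fi24Mult27.Low.L22
import Cfsg.Agent.Lib.Fi24Mult27.Low.L23
import Cfsg.Agent.Lib.Fi24Mult27.Low.L24
import Cfsg.Agent.Lib.Fi24Mult27.Low.L25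
import Cfsg.Agent.Lib.Fi24Mult27.Low.L26
import Cfsg.Agent.Lib.Fi24Mult27.Low.L27
import Cfsg.Agent.Lib.Fi24Mult27.Low.L28
import Cfsg.Agent.Lib.Fi24Mult27.Low.L29
import Cfsg.Agent.Lib.Fi24Mult27.Low.L30
import Cfsg.Agent.Lib.Fi24Mult27.Low.L31
import Cfsg.Agent.Lib.Fi24Mult27.Low.L32
import Cfsg.Agent.Lib.Fi24Mult27.Low.L33
import Cfsg.Agent.Lib.Fi24Mult27.Low.L34
import Cfsg.Agent.Lib.Fi24Mult27.Low.L35
import Cfsg.Agent.Lib.Fi24Mult27.Low.L36
import Cfsg.Agent.Lib.Fi24Mult27.Low.L37
import Cfsg.Agent.Lib.Fi24Mult27.Low.L38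
import Cfsg.Agent.Lib.Fi24Mult27.Low.L39

/-! All points of the threefold cover pass. -/

set_option autoImplicit false

namespace Cfsg.Agent.Lib.Fi24Mult27

theorem labs_ok : ∀ i < 306936, labOk i = true := by
  intro i hi
  by_cases h : i < 7680
  · exact labRange0 i (by omega) h
  by_cases h : i < 15360
  · exact labRange1 i (by omega) h
  by_cases h : i < 23040
  · exact labRange2 i (by omega) h
  by_cases h : i < 30720
  · exact labRange3 i (by omega) h
  by_cases h : i < 38400
  · exact labRange4 i (by omega) h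
  by_cases h : i < 46080
  · exact labRange5 i (by omega) h
  by_cases h : i < 53760
  · exact labRange6 i (by omega) h
  by_cases h : i < 61440
  · exact labRange7 i (by omega) h
  by_cases h : i < 69120
  · exact labRange8 i (by omega) h
  by_cases h : i < 76800
  · exact labRange9 i (by omega) h
  by_cases h : i < 84480
  · exact labRange10 i (by omega) h
  by_cases h : i < 92160
  · exact labRange11 i (by omega) h
  by_cases h : i < 99840
  · exact labRange12 i (by omega) h
  by_cases h : i < 107520
  · exact labRange13 i (by omega) h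
  by_cases h : i < 115200
  · exact labRange14 i (by omega) h
  by_cases h : i < 122880
  · exact labRange15 i (by omega) h
  by_cases h : i < 130560
  · exact labRange16 i (by omega) h
  by_cases h : i < 138240
  · exact labRange17 i (by omega) h
  by_cases h : i < 145920
  · exact labRange18 i (by omega) h
  by_cases h : i < 153600
  · exact labRange19 i (by omega) h
  by_cases h : i < 161280
  · exact labRange20 i (by omega) h
  by_cases h : i < 168960
  · exact labRange21 i (by omega) h
  by_cases h : i < 176640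
  · exact labRange22 i (by omega) h
  by_cases h : i < 184320
  · exact labRange23 i (by omega) h
  by_cases h : i < 192000
  · exact labRange24 i (by omega) h
  by_cases h : i < 199680
  · exact labRange25 i (by omega) h
  by_cases h : i < 207360
  · exact labRange26 i (by omega) h
  by_cases h : i < 215040
  · exact labRange27 i (by omega) h
  by_cases h : i < 222720
  · exact labRange28 i (by omega) h
  by_cases h : i < 230400
  · exact labRange29 i (by omega) h
  by_cases h : i < 238080
  · exact labRange30 i (by omega) h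
  by_cases h : i < 245760
  · exact labRange31 i (by omega) h
  by_cases h : i < 253440
  · exact labRange32 i (by omega) h
  by_cases h : i < 261120
  · exact labRange33 i (by omega) h
  by_cases h : i < 268800
  · exact labRange34 i (by omega) h
  by_cases h : i < 276480
  · exact labRange35 i (by omega) h
  by_cases h : i < 284160
  · exact labRange36 i (by omega) h
  by_cases h : i < 291840
  · exact labRange37 i (by omega) h
  by_cases h : i < 299520
  · exact labRange38 i (by omega) h
  exact labRange39 i (by omega) (by omega)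

end Cfsg.Agent.Lib.Fi24Mult27
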