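import Cfsg.Agent.Lib.Fi24Mult27.CoverPerms
import Cfsg.Prelude.Def_KGroupFacts

/-!
A stem extension of the commutator subgroup of the presented Fi24 with kernel of order three.
-/

set_option autoImplicit false
set_option maxRecDepth 20000

namespace Cfsg.Agent.Lib.Fi24Mult27

open Cfsg.Agent.Lib
open Cfsg.Agent.Lib.Fi24 (xg table)
open scoped commutatorElement

attribute [local irreducible] Fi24.table Fi24.tree Fi24.cox3 Fi24.spider1 Fi24.spider4 Fi24.rotTree labTree

theorem derived_perfect : ⁅commutator G, commutator G⁆ = commutator G := by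
  obtain ⟨hs, hc⟩ := Fi24.isFi24'_derived
  have := hs
  rcases (inferInstance : (commutator Cfsg.Spor.Fi24').Normal).eq_bot_or_eq_top with h | h
  · exfalso
    let _ : CommGroup Cfsg.Spor.Fi24' :=
      { (inferInstance : Group Cfsg.Spor.Fi24') with
        mul_comm := fun a b => by
          have hm : ⁅a, b⁆ ∈ commutator Cfsg.Spor.Fi24' :=
            Subgroup.commutator_mem_commutator (Subgroup.mem_top a) (Subgroup.mem_top b)
          rw [h, Subgroup.mem_bot, commutatorElement_eq_one_iff_mul_comm] at hm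
          exact hm }
    have hp := IsSimpleGroup.prime_card (α := Cfsg.Spor.Fi24')
    rw [hc] at hp
    exact absurd hp (by norm_num)
  · have e := congrArg (Subgroup.map (commutator G).subtype) h
    rw [commutator_def Cfsg.Spor.Fi24', Subgroup.map_commutator, ← MonoidHom.range_eq_map, Subgroup.range_subtype] at e
    exact e

/-- The faithful action on the points. -/
theorem exists_action : ∃ ρ : G →* Equiv.Perm (Fin 306936), Function.Injective ρ ∧
    ∀ g < 12, ρ (xg g) = base g := by
  obtain ⟨ρ, σ, hscan, hst, -, -, -, hker, -, -, hfix, -⟩ := Fi24.hFacts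
  have hgen : ∀ g < 12, ρ (xg g) = base g := by
    intro g hg
    rw [← inv_inj, Fi24.Cert.perm_inv pairs_ok hg]
    ext i
    have h := hscan [g] (by simpa using hg) i
    rw [List.map_cons, List.map_nil, List.prod_cons, List.prod_nil, mul_one] at h
    rw [h, Fi24.Cert.perm_apply pairs_ok hg]
    exact CosetEnum.force_eq _ _
  refine ⟨ρ, ?_, hgen⟩
  rw [← MonoidHom.ker_eq_bot_iff, eq_bot_iff]
  intro n hn
  have hn' : ρ n = 1 := hn
  have hnH : n ∈ Fi24.H := (hst n).2 (by rw [hn', Equiv.Perm.one_apply])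
  rcases (hker ⟨n, hnH⟩).1 ((hfix _).2 fun m => by
    rw [show ρ (⟨n, hnH⟩ : Fi24.H).1 = 1 from hn', Equiv.Perm.one_apply]) with h | h
  · exact h
  · exfalso
    change n = xg 0 at h
    have h' := congrArg (fun p : Equiv.Perm (Fin 306936) => (p ⟨1, by omega⟩).1) hn'
    simp only [h, hgen 0 (by omega), Fi24.Cert.perm_apply pairs_ok (show (0 : ℕ) < 12 by omega),
      Equiv.Perm.one_apply] at h'
    exact (show Fi24.Cert.tget table 1 0 ≠ 1 by decide +kernel) h'

section

variable (hL : LabelsOk)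

/-- The group generated by the lifted letters. -/
def coverGroup : Subgroup (Equiv.Perm Pt) := Subgroup.closure {p | ∃ g < 12, cperm hL g = p}

theorem cperm_mem {g : ℕ} (hg : g < 12) : cperm hL g ∈ coverGroup hL := Subgroup.subset_closure ⟨g, hg, rfl⟩

/-- The sign as a number modulo three. -/
def sg (x : G) : ZMod 3 := ((sgn x : ℤˣ) : ℤ)

theorem sg_mul (x y : G) : sg (x * y) = sg x * sg y := by
  simp only [sg, map_mul, Units.val_mul, Int.cast_mul]

theorem sg_one : sg 1 = 1 := by simp [sg]

theorem sg_sq (x : G) : sg x * sg x = 1 := by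
  rw [← sg_mul, sg, map_mul, Int.units_mul_self]; simp

variable (ρ : G →* Equiv.Perm (Fin 306936))

/-- A permutation of the copies lies over an element of the presented group. -/
def Over (w : Equiv.Perm Pt) (x : G) : Prop :=
  ∀ i c, (w (i, c)).1 = ρ x i ∧ (w (i, c)).2 = sg x * c + (w (i, 0)).2

theorem over_one : Over ρ 1 1 := fun i c => ⟨by simp, by simp [sg_one]⟩

theorem over_mul {w v : Equiv.Perm Pt} {x y : G} (h : Over ρ w x) (h' : Over ρ v y) :
    Over ρ (w * v) (x * y) := by
  intro i c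
  simp only [Equiv.Perm.mul_apply]
  rw [show v (i, c) = ((v (i, c)).1, (v (i, c)).2) from rfl, show v (i, 0) = ((v (i, 0)).1, (v (i, 0)).2) from rfl,
    (h' i c).1, (h' i 0).1]
  refine ⟨by rw [(h _ _).1, map_mul, Equiv.Perm.mul_apply], ?_⟩
  rw [(h _ _).2, (h' i c).2, (h _ (v (i, 0)).2).2, sg_mul]
  ring

theorem over_inv {w : Equiv.Perm Pt} {x : G} (h : Over ρ w x) : Over ρ w⁻¹ x⁻¹ := by
  have key : ∀ i c, w⁻¹ (i, c) = (ρ x⁻¹ i, sg x * (c - (w (ρ x⁻¹ i, 0)).2)) := by
    intro i c
    rw [Equiv.Perm.inv_def, Equiv.symm_apply_eq]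
    refine Prod.ext ?_ ?_
    · rw [(h _ _).1, ← Equiv.Perm.mul_apply, ← map_mul, mul_inv_cancel, map_one, Equiv.Perm.one_apply]
    · rw [(h _ _).2, ← mul_assoc, sg_sq, one_mul, sub_add_cancel]
  have hs : sg x⁻¹ = sg x := by rw [sg, sg, map_inv, Int.units_inv_eq_self]
  intro i c
  rw [key, key]
  exact ⟨rfl, by rw [hs]; ring⟩

variable {ρ}

theorem over_gen (hρ : ∀ g < 12, ρ (xg g) = base g) {g : ℕ} (hg : g < 12) :
    Over ρ (cperm hL g) (xg g) := by
  intro i c
  rw [cperm_apply hL hg, cperm_apply hL hg, hρ g hg]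
  refine ⟨rfl, ?_⟩
  show -c + labZ i.1 g = sg (xg g) * c + (-0 + labZ i.1 g)
  rw [sg, sgn_xg]
  simp

theorem exists_over (hρ : ∀ g < 12, ρ (xg g) = base g) {w : Equiv.Perm Pt} (hw : w ∈ coverGroup hL) :
    ∃ x, Over ρ w x := by
  induction hw using Subgroup.closure_induction with
  | mem a ha => obtain ⟨g, hg, rfl⟩ := ha; exact ⟨_, over_gen hL hρ hg⟩
  | one => exact ⟨1, over_one ρ⟩
  | mul a b _ _ ha hb =>
    obtain ⟨x, hx⟩ := ha
    obtain ⟨y, hy⟩ := hb
    exact ⟨x * y, over_mul ρ hx hy⟩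
  | inv a _ ha => obtain ⟨x, hx⟩ := ha; exact ⟨x⁻¹, over_inv ρ hx⟩

theorem over_unique (hinj : Function.Injective ρ) {w : Equiv.Perm Pt} {x y : G} (h : Over ρ w x)
    (h' : Over ρ w y) : x = y :=
  hinj (Equiv.ext fun i => (h i 0).1.symm.trans (h' i 0).1)

theorem shift_conj {w : Equiv.Perm Pt} {x : G} (h : Over ρ w x) :
    w * shift hL * w⁻¹ = if sgn x = 1 then shift hL else (shift hL)⁻¹ := by
  rw [mul_inv_eq_iff_eq_mul]
  ext1 ⟨i, c⟩
  rcases Int.units_eq_one_or (sgn x) with e | e
  · rw [if_pos e, Equiv.Perm.mul_apply, Equiv.Perm.mul_apply]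
    refine Prod.ext ((h i (c + 1)).1.trans (h i c).1.symm) ?_
    show (w (i, c + 1)).2 = (w (i, c)).2 + 1
    rw [(h i (c + 1)).2, (h i c).2, sg, e]
    simp
    ring
  · rw [if_neg (by rw [e]; decide), Equiv.Perm.mul_apply, Equiv.Perm.mul_apply]
    refine Prod.ext ((h i (c + 1)).1.trans (h i c).1.symm) ?_
    show (w (i, c + 1)).2 = (w (i, c)).2 - 1
    rw [(h i (c + 1)).2, (h i c).2, sg, e]
    simp
    ring

theorem shift_pow (n : ℕ) (x : Pt) : (shift hL ^ n) x = (x.1, x.2 + n) := by
  induction n with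
  | zero => simp
  | succ n ih =>
    rw [pow_succ', Equiv.Perm.mul_apply, ih]
    exact Prod.ext rfl (by push_cast; show x.2 + n + 1 = _; ring)

theorem orderOf_shift : orderOf (shift hL) = 3 := by
  refine orderOf_eq_prime ?_ ?_
  · ext1 x
    rw [shift_pow, Equiv.Perm.one_apply, show ((3 : ℕ) : ZMod 3) = 0 by decide, add_zero]
  · intro h
    have := congrArg (fun p : Equiv.Perm Pt => (p (⟨0, by omega⟩, 0)).2) h
    simp [shift] at this

theorem shift_mem : shift hL ∈ coverGroup hL := by
  have h : (((List.replicate 17 Fi24.spider).flatten).map (cperm hL)).prod ∈ coverGroup hL := by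
    refine Subgroup.list_prod_mem _ fun p hp => ?_
    obtain ⟨g, hg, rfl⟩ := List.mem_map.1 hp
    exact cperm_mem hL ((show ∀ g ∈ (List.replicate 17 Fi24.spider).flatten, g < 12 by decide +kernel) g hg)
  rw [spider_word] at h
  exact inv_inv (shift hL) ▸ (coverGroup hL).inv_mem h

end

/-- A stem extension with kernel of order three exists. -/
theorem lower_of_labels (hL : LabelsOk) : ∃ (Γ : Type) (_ : Group Γ) (_ : Finite Γ) (σ : Γ →* Cfsg.Spor.Fi24'),
    Cfsg.IsStemExtension σ ∧ Nonempty (σ.ker ≃* Multiplicative (ZMod 3)) := by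
  obtain ⟨ρ, hinj, hρ⟩ := exists_action
  let W := coverGroup hL
  choose f hf using fun w : W => exists_over hL hρ w.2
  let π : W →* G := MonoidHom.mk' f fun a b => over_unique hinj (hf (a * b)) (over_mul ρ (hf a) (hf b))
  let t : ℕ → W := fun g => if hg : g < 12 then ⟨cperm hL g, cperm_mem hL hg⟩ else 1
  have ht : ∀ g, g < 12 → (t g).1 = cperm hL g := fun g hg => by simp [t, hg]
  have hπt : ∀ g, g < 12 → π (t g) = xg g := fun g hg => by
    refine over_unique hinj (hf _) ?_
    rw [ht g hg]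
    exact over_gen hL hρ hg
  have ht2 : ∀ g, g < 12 → t g * t g = 1 := fun g hg => Subtype.ext (by
    rw [Subgroup.coe_mul, ht g hg, cperm_sq hL hg, Subgroup.coe_one])
  let Z : W := ⟨shift hL, shift_mem hL⟩
  have hπZ : π Z = 1 := over_unique hinj (hf Z) fun i c => ⟨by simp [Z, shift], by simp [Z, shift, sg_one]⟩
  have hconj : ∀ w : W, w * Z * w⁻¹ = if sgn (π w) = 1 then Z else Z⁻¹ := fun w => by
    refine Subtype.ext ?_
    rw [apply_ite Subtype.val]
    exact shift_conj hL (hf w)
  let K : Subgroup W := Subgroup.zpowers Z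
  have hKn : K.Normal := ⟨fun n hn u => by
    obtain ⟨k, rfl⟩ := Subgroup.mem_zpowers_iff.1 hn
    rw [← conj_zpow, hconj]
    refine K.zpow_mem ?_ k
    split_ifs
    · exact Subgroup.mem_zpowers Z
    · exact K.inv_mem (Subgroup.mem_zpowers Z)⟩
  have hword : ∀ l : List ℕ, (∀ g ∈ l, g < 12) → ((l.map t).prod : W).1 = (l.map (cperm hL)).prod := by
    intro l hl
    induction l with
    | nil => rfl
    | cons g l ih =>
      rw [List.map_cons, List.prod_cons, Subgroup.coe_mul, ht g (hl g List.mem_cons_self),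
        ih fun x hx => hl x (List.mem_cons_of_mem _ hx)]
      rfl
  -- the kernel of the projection is generated by the shift
  let mkK := QuotientGroup.mk' K
  have hrel : ∀ l ∈ Fi24.rels, (l.map fun g => mkK (t g)).prod = 1 := by
    intro l hl
    rw [show l.map (fun g => mkK (t g)) = (l.map t).map mkK by rw [List.map_map]; rfl, ← map_list_prod]
    refine (QuotientGroup.eq_one_iff _).2 ?_
    have hlt := (Fi24.rels_one l hl).1
    rcases rels_cperm hL l hl with h | h
    · rw [show (l.map t).prod = 1 from Subtype.ext ((hword l hlt).trans h)]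
      exact K.one_mem
    · rw [show (l.map t).prod = Z⁻¹ from Subtype.ext ((hword l hlt).trans h)]
      exact K.inv_mem (Subgroup.mem_zpowers Z)
  let back : G →* W ⧸ K := PresentedGroup.toGroup
    (lift_rels (p := fun g => mkK (t g)) (fun g hg => by rw [← map_mul, ht2 g hg, map_one]) hrel)
  have hclo : ∀ (P : W → Prop), P 1 → (∀ g, g < 12 → P (t g)) → (∀ a b, P a → P b → P (a * b)) →
      (∀ a, P a → P a⁻¹) → ∀ w, P w := by
    intro P h1 hg hm hi
    rintro ⟨w, hw⟩
    induction hw using Subgroup.closure_induction with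
    | mem a ha =>
      obtain ⟨g, hg', rfl⟩ := ha
      exact (show t g = ⟨cperm hL g, cperm_mem hL hg'⟩ from Subtype.ext (ht g hg')) ▸ hg g hg'
    | one => exact h1
    | mul a b ha hb iha ihb => exact hm ⟨a, ha⟩ ⟨b, hb⟩ iha ihb
    | inv a ha iha => exact hi ⟨a, ha⟩ iha
  have hback : ∀ w, back (π w) = mkK w := by
    refine hclo _ (by simp) (fun g hg => ?_) (fun a b ha hb => by simp [ha, hb]) fun a ha => by simp [ha]
    rw [hπt g hg, xg, PresentedGroup.toGroup.of, Fi24.col_genOf g hg]
  have hker : π.ker = K := by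
    refine le_antisymm (fun w hw => ?_) (Subgroup.zpowers_le.2 hπZ)
    have := hback w
    rw [show π w = 1 from hw, map_one] at this
    exact (QuotientGroup.eq_one_iff w).1 this.symm
  have hsur : Function.Surjective π := fun x => by
    obtain ⟨l, hl, rfl⟩ := exists_list x
    exact ⟨(l.map t).prod, by
      rw [map_list_prod, List.map_map]; exact congrArg List.prod (List.map_congr_left fun g hg => hπt g (hl g hg))⟩
  -- the even part
  let E : Subgroup W := (commutator G).comap π
  let σ : E →* Cfsg.Spor.Fi24' := (π.comp E.subtype).codRestrict (commutator G) fun x => x.2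
  have hσ : ∀ x : E, (σ x).1 = π x.1 := fun x => rfl
  have hσK : ∀ x : E, σ x = 1 ↔ x.1 ∈ K := fun x => by
    rw [← hker, MonoidHom.mem_ker, Subtype.ext_iff, hσ]
    rfl
  have hnorm : E.Normal := Subgroup.Normal.comap inferInstance π
  let D : Subgroup W := ⁅E, E⁆
  have hDn : D.Normal := Subgroup.commutator_normal E E
  have hDE : D ≤ E := Subgroup.commutator_le_left E E
  have hdec : ∀ x ∈ E, ∃ d ∈ D, d⁻¹ * x ∈ K := by
    intro x hx
    have hmap : D.map π = commutator G := by
      rw [Subgroup.map_commutator, Subgroup.map_comap_eq_self_of_surjective hsur, derived_perfect]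
    obtain ⟨d, hd, he⟩ := hmap.symm.le hx
    exact ⟨d, hd, hker ▸ (by rw [MonoidHom.mem_ker, map_mul, map_inv, he, inv_mul_cancel])⟩
  let mkD := QuotientGroup.mk' D
  have hsgn : ∀ g, g < 12 → sgn (π (t g)) = -1 := fun g hg => by rw [hπt g hg, sgn_xg]
  have hmemE : ∀ w, w ∈ E ↔ sgn (π w) = 1 := fun w => mem_derived
  have hZ3 : Z ^ 3 = 1 := Subtype.ext (by
    rw [Subgroup.coe_pow, ← orderOf_shift hL]; exact pow_orderOf_eq_one _)
  have hsep : ∀ g k, g < 12 → k < g → Nat.testBit Fi24.adjM (12 * g + k) = false → mkD (t g) = mkD (t k) := by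
    intro g k hg hk hb
    have hc : cperm hL g * cperm hL k = cperm hL k * cperm hL g := by
      have := pair_rel_cperm hL hg hk
      rwa [hb, if_neg Bool.false_ne_true] at this
    have hk' : k < 12 := by omega
    have hu : t g * t k ∈ E := by
      rw [hmemE, map_mul, map_mul, hsgn g hg, hsgn k hk']; decide
    obtain ⟨d, hd, hk3⟩ := hdec _ hu
    obtain ⟨n, hn⟩ := Subgroup.mem_zpowers_iff.1 hk3
    have e3 : mkD (t g * t k) ^ 3 = 1 := by
      rw [show t g * t k = d * Z ^ n by rw [hn, mul_inv_cancel_left], map_mul,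
        show mkD d = 1 from (QuotientGroup.eq_one_iff d).2 hd, one_mul, map_zpow, ← zpow_natCast,
        ← zpow_mul, mul_comm, zpow_mul, zpow_natCast, ← map_pow, hZ3, map_one, one_zpow]
    have e2 : mkD (t g * t k) ^ 2 = 1 := by
      rw [← map_pow, show (t g * t k) ^ 2 = 1 from Subtype.ext (by
        rw [Subgroup.coe_pow, Subgroup.coe_mul, ht g hg, ht k hk', pow_two, Subgroup.coe_one]
        calc cperm hL g * cperm hL k * (cperm hL g * cperm hL k)
            = cperm hL g * cperm hL k * (cperm hL k * cperm hL g) := by rw [← hc]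
          _ = 1 := by rw [mul_assoc, ← mul_assoc (cperm hL k), cperm_sq hL hk', one_mul, cperm_sq hL hg]),
        map_one]
    rw [pow_succ, e2, one_mul, map_mul] at e3
    rw [eq_inv_of_mul_eq_one_left e3, ← map_inv, inv_eq_of_mul_eq_one_right (ht2 k hk')]
  have hq : ∀ g, g < 12 → mkD (t g) = mkD (t 0) := by
    intro g hg
    rcases eq_or_ne g 0 with rfl | h0
    · rfl
    rcases eq_or_ne g 1 with rfl | h1
    · exact (hsep 3 1 (by omega) (by omega) (by decide +kernel)).symm.trans
        (hsep 3 0 (by omega) (by omega) (by decide +kernel))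
    · exact hsep g 0 hg (by omega)
        ((show ∀ g < 12, g ≠ 0 → g ≠ 1 → Nat.testBit Fi24.adjM (12 * g + 0) = false by decide +kernel) g hg h0 h1)
  have hq2 : mkD (t 0) * mkD (t 0) = 1 := by rw [← map_mul, ht2 0 (by omega), map_one]
  have hall : ∀ w, mkD w = 1 ∨ mkD w = mkD (t 0) := by
    refine hclo _ (Or.inl (map_one _)) (fun g hg => Or.inr (hq g hg)) (fun a b ha hb => ?_) fun a ha => ?_
    · rw [map_mul]
      rcases ha with ha | ha <;> rcases hb with hb | hb <;> rw [ha, hb] <;> simp [hq2]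
    · rw [map_inv]
      rcases ha with ha | ha <;> rw [ha] <;> simp [inv_eq_of_mul_eq_one_right hq2]
  have hZE : Z ∈ E := by rw [hmemE, hπZ, map_one]
  have hZD : Z ∈ D := by
    rcases hall Z with h | h
    · exact (QuotientGroup.eq_one_iff Z).1 h
    · exfalso
      have hh : Z⁻¹ * t 0 ∈ D := QuotientGroup.eq.1 h
      have ht0 : t 0 ∈ E := by simpa using E.mul_mem hZE (hDE hh)
      rw [hmemE, hsgn 0 (by omega)] at ht0
      exact absurd ht0 (by decide)
  refine ⟨E, inferInstance, inferInstance, σ, ⟨fun x => ?_, fun x hx => ?_, fun x hx => ?_⟩, ?_⟩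
  · obtain ⟨w, hw⟩ := hsur x.1
    exact ⟨⟨w, show π w ∈ commutator G by rw [hw]; exact x.2⟩, Subtype.ext hw⟩
  · rw [Subgroup.mem_center_iff]
    intro y
    obtain ⟨n, hn⟩ := Subgroup.mem_zpowers_iff.1 ((hσK x).1 hx)
    refine Subtype.ext ?_
    show y.1 * x.1 = x.1 * y.1
    have hc : Commute y.1 Z := by
      have := hconj y.1
      rw [if_pos ((hmemE y.1).1 y.2), mul_inv_eq_iff_eq_mul] at this
      exact this
    rw [← hn]
    exact (hc.zpow_right n).eq
  · have hxD : x.1 ∈ (commutator E).map E.subtype := by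
      rw [Subgroup.map_subtype_commutator]
      obtain ⟨n, hn⟩ := Subgroup.mem_zpowers_iff.1 ((hσK x).1 hx)
      rw [← hn]
      exact D.zpow_mem hZD n
    obtain ⟨y, hy, he⟩ := hxD
    exact (show y = x from Subtype.ext he) ▸ hy
  · have : Fact (Nat.Prime 3) := ⟨Nat.prime_three⟩
    refine ⟨mulEquivOfPrimeCardEq (p := 3) ?_ (by simp)⟩
    have hmap : σ.ker.map E.subtype = K := by
      ext w
      constructor
      · rintro ⟨x, hx, rfl⟩
        exact (hσK x).1 hx
      · intro hw
        have hwE : w ∈ E := by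
          rw [hmemE]
          rw [← hker] at hw
          rw [show π w = 1 from hw, map_one]
        exact ⟨⟨w, hwE⟩, (hσK _).2 hw, rfl⟩
    rw [← Subgroup.card_map_of_injective (K := σ.ker) E.subtype_injective, hmap, Nat.card_zpowers,
      ← Subgroup.orderOf_coe, orderOf_shift]

end Cfsg.Agent.Lib.Fi24Mult27
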