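import Cfsg.Agent.Lib.Fi24Mult27.Upper
import Cfsg.Agent.Lib.Fi24Mult27.Lower
import Cfsg.Agent.Lib.Fi24Mult27.LowChecks

/-! The multiplier of the commutator subgroup of the presented Fi24 is cyclic of order three. -/

set_option autoImplicit false

namespace Cfsg.Agent.Lib.Fi24Mult27

theorem multiplier : Cfsg.HasCyclicSchurMultiplier Cfsg.Spor.Fi24' 3 :=
  ⟨lower_of_labels labs_ok, fun _ _ _ _ hσ => upper hσ⟩

end Cfsg.Agent.Lib.Fi24Mult27
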