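import Cfsg.Agent.Lib.Fi24Mult27.Doubling
import Cfsg.Prelude.Def_KGroupFacts

/-!
The kernel of a stem extension of the commutator subgroup of the presented Fi24 is generated by one element
of order dividing three.
-/

set_option autoImplicit false
set_option maxRecDepth 20000

namespace Cfsg.Agent.Lib.Fi24Mult27

open Cfsg.Agent.Lib
open Cfsg.Agent.Lib.Fi24 (xg col)
open scoped commutatorElement

variable {Γ : Type} [Group Γ]

theorem pair_inj {a b c d : Γ} (h : pair a b = pair c d) : a = c ∧ b = d :=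
  Prod.mk.inj (SemidirectProduct.inl_injective h)

theorem pair_zpow (a b : Γ) (n : ℤ) : pair a b ^ n = pair (a ^ n) (b ^ n) :=
  (map_zpow (SemidirectProduct.inl : Γ × Γ →* Double Γ) (a, b) n).symm

theorem val_pair (a b : Γ) (v : ℤ × ℤ) :
    val (pair a b) (pair b a) v = pair (a ^ v.1 * b ^ v.2) (b ^ v.1 * a ^ v.2) := by
  rw [val, pair_zpow, pair_zpow, pair_mul]

theorem module_pair {a b : Γ} (ha : ∀ w, w * a = a * w) (hb : ∀ w, w * b = b * w) :
    Module (SemidirectProduct.rightHom : Double Γ →* ℤˣ) (pair a b) (pair b a) := by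
  have hev : ∀ c d x y : Γ, c * x = x * c → d * y = y * d →
      (⟨(c, d), 1⟩ : Double Γ) * pair x y * (⟨(c, d), 1⟩)⁻¹ = pair x y := by
    intro c d x y hx hy
    rw [show (⟨(c, d), 1⟩ : Double Γ) = pair c d from rfl, mul_inv_eq_iff_eq_mul, pair_mul, pair_mul, hx, hy]
  have hodd : ∀ c d x y : Γ, c * y = y * c → d * x = x * d →
      (⟨(c, d), -1⟩ : Double Γ) * pair x y * (⟨(c, d), -1⟩)⁻¹ = pair y x := by
    intro c d x y hx hy
    rw [show (⟨(c, d), -1⟩ : Double Γ) = pair c d * flip' from enc_eq c d, mul_inv_eq_iff_eq_mul,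
      mul_assoc, flip_pair, ← mul_assoc, pair_mul, ← mul_assoc, pair_mul, hx, hy]
  refine ⟨?_, ?_, ?_, rfl, rfl⟩
  · rw [Commute, SemiconjBy, pair_mul, pair_mul, ha b]
  · rintro ⟨⟨c, d⟩, u⟩ (hu : u = 1)
    subst hu
    exact ⟨hev c d a b (ha c) (hb d), hev c d b a (hb c) (ha d)⟩
  · rintro ⟨⟨c, d⟩, u⟩ (hu : u = -1)
    subst hu
    exact ⟨hodd c d a b (hb c) (ha d), hodd c d b a (ha c) (hb d)⟩

variable [Finite Γ] {σ : Γ →* G'} (L : Lift σ)

omit [Finite Γ] in
theorem rel_pair {r : ℕ} (hr : r < Fi24.rels.length) :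
    ∃ a b, σ a = 1 ∧ σ b = 1 ∧ ((Fi24.rels.getD r []).map L.phi).prod = pair a b := by
  have hev : (Fi24.rels.getD r []).length % 2 = 0 :=
    (show ∀ r < Fi24.rels.length, (Fi24.rels.getD r []).length % 2 = 0 by decide +kernel) r hr
  obtain ⟨h1, h2⟩ := Fi24.rels_one _ (List.getElem_mem hr)
  rw [← List.getD_eq_getElem _ [] hr] at h1 h2
  obtain ⟨e1, e2, e3⟩ := L.prod_σ _ h1
  rw [h2, lp_even hev, one_mul] at e1
  rw [h2, mul_one, show lp ((Fi24.rels.getD r []).length + 1) = xg 0 by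
    rw [lp, pow_succ, ← lp, lp_even hev, one_mul], Fi24.xg_sq (by omega)] at e2
  rw [Even.neg_one_pow (Nat.even_iff.2 hev)] at e3
  exact ⟨_, _, Subtype.ext e1, Subtype.ext e2, SemidirectProduct.ext rfl e3⟩

omit [Finite Γ] in
theorem setting (hc : σ.ker ≤ Subgroup.center Γ) {a b : Γ} (ha : σ a = 1) (hb : σ b = 1) :
    Setting L.phi (SemidirectProduct.rightHom : Double Γ →* ℤˣ) (pair a b) (pair b a) L.emb.range Fi24.inH where
  mod := module_pair (fun w => Subgroup.mem_center_iff.1 (hc ha) w) (fun w => Subgroup.mem_center_iff.1 (hc hb) w)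
  invol g hg := L.phi_sq hg
  sign g _ := rfl
  mem g hg h := by
    have h1 : g ≠ 1 := fun e => by subst e; exact absurd h (by decide)
    exact ⟨_, (L.emb_xg hg h1).symm⟩

theorem rels_length : Fi24.rels.length = 68 := by decide +kernel

omit [Finite Γ] in
/-- All relators but the spider hold; the spider has an inverse pair of central elements of order three. -/
theorem relators (hc : σ.ker ≤ Subgroup.center Γ) :
    ∃ e : Γ, σ e = 1 ∧ e ^ 3 = 1 ∧ (∀ r < 67, ((Fi24.rels.getD r []).map L.phi).prod = 1) ∧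
      ((Fi24.rels.getD 67 []).map L.phi).prod = pair e e⁻¹ := by
  have hl : ∀ r < 68, ∀ g ∈ Fi24.rels.getD r [], g < 12 := fun r hr => by
    rw [List.getD_eq_getElem _ [] (rels_length ▸ hr)]
    exact (Fi24.rels_one _ (List.getElem_mem _)).1
  -- first stage
  obtain ⟨a, b, ha, hb, hp⟩ := rel_pair L (r := 2) (by rw [rels_length]; omega)
  have S := setting L hc ha hb
  have hR := rotOk_of_rels (st := 0) (V := rotVals0) S (fun r hr h => by
    rw [rels_length] at hr
    have h67 : r ≠ 67 := h.resolve_left (by omega)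
    rcases eq_or_ne r 2 with rfl | h2
    · rw [hp, show baseVal 0 2 = (1, 0) from rfl, val_pair]; simp
    · rw [L.rel_exact (by rw [rels_length]; omega) h2 h67, show baseVal 0 r = 0 from if_neg (by simpa using h2), Module.val_zero])
    specs0_ok
  have h66 : ((Fi24.rels.getD 66 []).map L.phi).prod =
      val (pair a b) (pair b a) (((8 : ℕ) : ℤ) - 8, ((8 : ℕ) : ℤ) - 8) := by
    rw [L.rel_exact (by rw [rels_length]; omega) (by omega) (by omega)]
    exact Module.val_zero.symm
  have k1 := loop_sound S cert_ok 0 _ (Or.inl ⟨rfl, rfl⟩) hR (hl 66 (by omega)) h66 loops_ok.1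
  have k2 := loop_sound S cert_ok 0 _ (Or.inl ⟨rfl, rfl⟩) hR (hl 66 (by omega)) h66 loops_ok.2.1
  rw [val_pair] at k1 k2
  obtain ⟨q1, -⟩ := L.emb_range (by simp [ha, hb]) k1
  obtain ⟨q2, -⟩ := L.emb_range (by simp [ha, hb]) k2
  norm_num at q1 q2
  have hab : a = b := mul_inv_eq_one.1 q1
  have ha1 : a = 1 := by simpa [hab, pow_two] using q2
  have hδ : ∀ r < 67, ((Fi24.rels.getD r []).map L.phi).prod = 1 := by
    intro r hr
    rcases eq_or_ne r 2 with rfl | h2
    · rw [hp, ← hab, ha1, pair_one]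
    · exact L.rel_exact (by rw [rels_length]; omega) h2 (by omega)
  -- second stage
  obtain ⟨e, f, he, hf, hq⟩ := rel_pair L (r := 67) (by rw [rels_length]; omega)
  have S' := setting L hc he hf
  have hR' := rotOk_of_rels (st := 1) (V := rotVals1) S' (fun r hr _ => by
    rw [rels_length] at hr
    rcases eq_or_ne r 67 with rfl | h67
    · rw [hq, show baseVal 1 67 = (1, 0) from rfl, val_pair]; simp
    · rw [hδ r (by omega), show baseVal 1 r = 0 from if_neg (by simpa using h67), Module.val_zero])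
    specs1_ok
  have hzero : ∀ r < 67, ((Fi24.rels.getD r []).map L.phi).prod =
      val (pair e f) (pair f e) (((8 : ℕ) : ℤ) - 8, ((8 : ℕ) : ℤ) - 8) := fun r hr => by
    rw [hδ r hr]
    exact Module.val_zero.symm
  have k3 := loop_sound S' cert_ok 1 _ (Or.inr ⟨rfl, rfl⟩) hR' (hl 13 (by omega)) (hzero 13 (by omega))
    loops_ok.2.2.1
  have k4 := loop_sound S' cert_ok 1 _ (Or.inr ⟨rfl, rfl⟩) hR' (hl 20 (by omega)) (hzero 20 (by omega))
    loops_ok.2.2.2
  rw [val_pair] at k3 k4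
  obtain ⟨q3, -⟩ := L.emb_range (by simp [he, hf]) k3
  obtain ⟨q4, -⟩ := L.emb_range (by simp [he]) k4
  norm_num at q3 q4
  have hfe : f = e⁻¹ := by
    have := congrArg (fun x => f * (e * x)) (show e⁻¹ * f⁻¹ = 1 from q3)
    simp at this
    exact eq_inv_of_mul_eq_one_left this.symm
  exact ⟨e, he, q4, hδ, by rw [hq, hfe]⟩

/-- The kernel of a stem extension is generated by an element of order dividing three. -/
theorem exists_generator (hσ : Cfsg.IsStemExtension σ) :
    ∃ e : Γ, σ e = 1 ∧ e ^ 3 = 1 ∧ σ.ker ≤ Subgroup.zpowers e := by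
  obtain ⟨hsur, hc, hd⟩ := hσ
  obtain ⟨L⟩ := exists_lift hsur hc
  obtain ⟨e, he, he3, hrel, hspider⟩ := relators L hc
  refine ⟨e, he, he3, ?_⟩
  let E := Subgroup.zpowers e
  have : E.Normal := ⟨fun n hn u => by
    have : n ∈ Subgroup.center Γ := Subgroup.zpowers_le.2 (hc he) hn
    rwa [Subgroup.mem_center_iff.1 this u, mul_inv_cancel_right]⟩
  let mk := QuotientGroup.mk' E
  let m : Double Γ →* Double (Γ ⧸ E) := SemidirectProduct.map (mk.prodMap mk) (MonoidHom.id _) fun u => by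
    rcases Int.units_eq_one_or u with rfl | rfl <;> ext x <;> simp [swapAut]
  let p : ℕ → Double (Γ ⧸ E) := fun g => m (L.phi g)
  have hp : ∀ l : List ℕ, (l.map p).prod = m (l.map L.phi).prod := fun l => by
    rw [map_list_prod, List.map_map]; rfl
  have hmem : ∀ l ∈ Fi24.rels, (l.map p).prod = 1 := by
    intro l hl
    obtain ⟨r, hr, rfl⟩ := List.getElem_of_mem hl
    rw [← List.getD_eq_getElem _ [] hr, hp]
    have hr' : r < 68 := rels_length ▸ hr
    rcases eq_or_ne r 67 with rfl | h67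
    · rw [hspider]
      refine SemidirectProduct.ext (Prod.ext ?_ ?_) rfl
      · exact (QuotientGroup.eq_one_iff _).2 (Subgroup.mem_zpowers e)
      · exact (QuotientGroup.eq_one_iff _).2 (E.inv_mem (Subgroup.mem_zpowers e))
    · rw [hrel r (by omega), map_one]
  have hsq : ∀ g < 12, p g * p g = 1 := fun g hg => by rw [← map_mul, L.phi_sq hg, map_one]
  let Θ : G →* Double (Γ ⧸ E) := PresentedGroup.toGroup (lift_rels hsq hmem)
  have hΘ : ∀ l : List ℕ, (∀ g ∈ l, g < 12) → Θ (l.map xg).prod = m (l.map L.phi).prod := by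
    intro l hl
    rw [← hp, map_list_prod, List.map_map]
    refine congrArg List.prod (List.map_congr_left fun g hg => ?_)
    show Θ (xg g) = p g
    rw [xg, PresentedGroup.toGroup.of, Fi24.col_genOf g (hl g hg)]
  let σQ : Γ ⧸ E →* G' := QuotientGroup.lift E σ (Subgroup.zpowers_le.2 he)
  have hright : ∀ x : G', (Θ x.1).right = 1 := fun x => by
    obtain ⟨l, hl, hx⟩ := exists_list x.1
    have hs : sgn x.1 = 1 := mem_derived.1 x.2
    rw [← hx, sgn_prod] at hs
    rw [← hx, hΘ l hl]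
    exact ((L.prod_σ l hl).2.2).trans hs
  let ψ : G' →* Γ ⧸ E := MonoidHom.mk' (fun x => (Θ x.1).left.1) fun x y => by
    rw [Subgroup.coe_mul, map_mul, SemidirectProduct.mul_left, hright x, map_one]
    rfl
  have hsec : ∀ x, σQ (ψ x) = x := fun x => by
    obtain ⟨l, hl, hx⟩ := exists_list x.1
    have hs : sgn x.1 = 1 := mem_derived.1 x.2
    rw [← hx, sgn_prod] at hs
    have hev : l.length % 2 = 0 := by
      by_contra h
      rw [Odd.neg_one_pow (Nat.odd_iff.2 (by omega))] at hs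
      exact absurd hs (by decide)
    have e1 := (L.prod_σ l hl).1
    rw [lp_even hev, mul_one, hx] at e1
    refine Subtype.ext ?_
    show ((σQ (Θ x.1).left.1).1 : G) = x.1
    conv_lhs => rw [← hx, hΘ l hl]
    exact e1
  -- the section is onto
  let M : Subgroup Γ := ψ.range.comap mk
  have hdec : ∀ u : Γ, ∃ v ∈ M, ∃ z, σ z = 1 ∧ u = v * z := fun u => by
    obtain ⟨v, hv⟩ := QuotientGroup.mk'_surjective E (ψ (σ u))
    have hσv : σ v = σ u := by
      have := congrArg σQ hv
      rwa [hsec] at this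
    exact ⟨v, ⟨σ u, hv.symm⟩, v⁻¹ * u, by rw [map_mul, map_inv, hσv, inv_mul_cancel],
      (mul_inv_cancel_left _ _).symm⟩
  have hcomm : commutator Γ ≤ M := by
    rw [commutator_def, Subgroup.commutator_le]
    intro u _ v _
    obtain ⟨u', hu', z, hz, rfl⟩ := hdec u
    obtain ⟨v', hv', w, hw, rfl⟩ := hdec v
    have cz := Subgroup.mem_center_iff.1 (hc hz)
    have cw := Subgroup.mem_center_iff.1 (hc hw)
    have he : ⁅u' * z, v' * w⁆ = ⁅u', v'⁆ := by
      simp only [commutatorElement_def]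
      calc u' * z * (v' * w) * (u' * z)⁻¹ * (v' * w)⁻¹
          = u' * (z * v') * (w * z⁻¹) * u'⁻¹ * w⁻¹ * v'⁻¹ := by group
        _ = u' * v' * (z * z⁻¹) * (w * u'⁻¹) * w⁻¹ * v'⁻¹ := by rw [← cz v', ← cw z⁻¹]; group
        _ = _ := by rw [← cw u'⁻¹]; group
    rw [he]
    exact M.mul_mem (M.mul_mem (M.mul_mem hu' hv') (M.inv_mem hu')) (M.inv_mem hv')
  intro z hz
  obtain ⟨x, hx⟩ : z ∈ M := hcomm (hd hz)
  have h1 : σ z = 1 := hz
  have hx1 : x = 1 := by
    rw [← hsec x, hx]
    exact h1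
  rw [hx1, map_one] at hx
  exact (QuotientGroup.eq_one_iff z).1 hx.symm

/-- The kernel of a stem extension is an image of the cyclic group of order three. -/
theorem upper (hσ : Cfsg.IsStemExtension σ) :
    ∃ π : Multiplicative (ZMod 3) →* σ.ker, Function.Surjective π := by
  obtain ⟨e, he, he3, hle⟩ := exists_generator hσ
  let c : σ.ker := ⟨e, he⟩
  have hc : c ^ 3 = 1 := Subtype.ext he3
  refine ⟨MonoidHom.mk' (fun x => c ^ (Multiplicative.toAdd x).val) fun x y => ?_, fun z => ?_⟩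
  · show c ^ (x.toAdd + y.toAdd).val = _
    rw [ZMod.val_add, ← pow_add]
    exact (pow_eq_pow_mod _ hc).symm
  · obtain ⟨k, hk⟩ := Subgroup.mem_zpowers_iff.1 (hle z.2)
    refine ⟨Multiplicative.ofAdd ((k : ℤ) : ZMod 3), Subtype.ext ?_⟩
    show e ^ (((k : ℤ) : ZMod 3)).val = z.1
    rw [← hk, ← zpow_natCast, ZMod.val_intCast]
    exact (zpow_eq_zpow_emod k (by exact_mod_cast he3)).symm

end Cfsg.Agent.Lib.Fi24Mult27
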